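import Groth.Agent.Lib.FlatFactor.Orbit
import Groth.Agent.Lib.GrpSchField.ImageSmooth
import Groth.Agent.Lib.RedSub.Basic
import Groth.Agent.Lib.DiagGrp.TrivOver
import Groth.Agent.S0414
import Groth.Prelude.Def_AGF
import Mathlib.AlgebraicGeometry.Morphisms.SchemeTheoreticallyDominant
import Mathlib.AlgebraicGeometry.Morphisms.FlatMono

/-!
# Quotients by stabilisers over a field embed as orbits
-/

universe u

open CategoryTheory CategoryTheory.Limits MonoidalCategory CartesianMonoidalCategory MonObj GrpObj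
open AlgebraicGeometry

namespace GrothLib.FlatFactor

open GrothLib.GrpSchField

/-- A morphism which lifts along an immersion after a schematically dominant surjection lifts. -/
theorem exists_lift_of_dominant {D E X Z : Scheme.{u}} (c : D ⟶ E) [QuasiCompact c]
    [IsSchemeTheoreticallyDominant c] [Surjective c] (z : Z ⟶ X) [IsImmersion z] (f : E ⟶ X)
    (l : D ⟶ Z) (w : l ≫ z = c ≫ f) : ∃ k : E ⟶ Z, k ≫ z = f := by
  let i := pullback.fst f z
  have : IsImmersion i := MorphismProperty.pullback_fst (P := @IsImmersion) f z ‹_›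
  let d : D ⟶ pullback f z := pullback.lift c l w.symm
  have hd : d ≫ i = c := pullback.lift_fst _ _ _
  have hs : Surjective i := by
    have : Surjective (d ≫ i) := by rw [hd]; infer_instance
    exact .of_comp d i
  have : IsClosedImmersion i :=
    IsClosedImmersion.of_isPreimmersion _ (by
      rw [Set.range_eq_univ.mpr hs.surj]; exact isClosed_univ)
  have : IsIso i := IsClosedImmersion.isIso_iff_ker_eq_bot.mpr
    (le_bot_iff.mp ((d.le_ker_comp i).trans (by rw [hd]; exact c.ker_eq_bot.le)))
  exact ⟨inv i ≫ pullback.snd f z,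
    by rw [Category.assoc, ← pullback.condition, IsIso.inv_hom_id_assoc]⟩

/-- Reducedness descends along flat surjections. -/
theorem isReduced_of_flat_surjective {A B : Scheme.{u}} (f : A ⟶ B) [Flat f] [Surjective f]
    [IsReduced A] : IsReduced B := by
  have : ∀ x, _root_.IsReduced (B.presheaf.stalk x) := fun x => by
    obtain ⟨z, rfl⟩ := f.surjective x
    have hf := Flat.stalkMap f z
    algebraize [(f.stalkMap z).hom]
    have : Module.FaithfullyFlat (B.presheaf.stalk (f z)) (A.presheaf.stalk z) :=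
      @Module.FaithfullyFlat.of_flat_of_isLocalHom _ _ _ _ _ _ _ hf (f.toLRSHom.prop z)
    exact isReduced_of_injective (algebraMap _ (A.presheaf.stalk z))
      (FaithfulSMul.algebraMap_injective _ _)
  exact isReduced_of_isReduced_stalk B

section Action

variable {S : Scheme.{u}} {G X : Over S} [GrpObj G]

/-- An action restricts to a stable monomorphism. -/
noncomputable def liftAction (a : AlgGrp.Action G X) {Z : Over S} (j : Z ⟶ X) [Mono j]
    (c : G ⊗ Z ⟶ Z) (hc : c ≫ j = (G ◁ j) ≫ a.act) : AlgGrp.Action G Z where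
  act := c
  one_act := by
    rw [← cancel_mono j, Category.assoc, hc, ← whisker_exchange_assoc, a.one_act,
      leftUnitor_naturality]
  mul_act := by
    rw [← cancel_mono j, Category.assoc, hc, ← whisker_exchange_assoc, a.mul_act,
      associator_naturality_right_assoc, ← MonoidalCategory.whiskerLeft_comp_assoc, ← hc,
      MonoidalCategory.whiskerLeft_comp_assoc, ← hc]
    simp only [Category.assoc]

@[simp]
theorem liftAction_act (a : AlgGrp.Action G X) {Z : Over S} (j : Z ⟶ X) [Mono j]
    (c : G ⊗ Z ⟶ Z) (hc : c ≫ j = (G ◁ j) ≫ a.act) : (liftAction a j c hc).act = c := rfl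

theorem unit_orbitMap (a : AlgGrp.Action G X) (o : 𝟙_ (Over S) ⟶ X) : η[G] ≫ a.orbitMap o = o := by
  rw [comp_orbitMap, toUnit_unique (toUnit (𝟙_ (Over S))) (𝟙 _), Category.id_comp]
  have h := act_one a o
  rwa [Hom.one_def, toUnit_unique (toUnit (𝟙_ (Over S))) (𝟙 _), Category.id_comp] at h

theorem orbitMap_comp {Y : Over S} {a : AlgGrp.Action G X} {b : AlgGrp.Action G Y}
    (y : 𝟙_ (Over S) ⟶ Y) (m : Y ⟶ X) (hm : (G ◁ m) ≫ a.act = b.act ≫ m) :
    b.orbitMap y ≫ m = a.orbitMap (y ≫ m) := by
  rw [AlgGrp.Action.orbitMap, AlgGrp.Action.orbitMap, Category.assoc, ← hm, lift_whiskerLeft_assoc,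
    Category.assoc]

end Action

variable {K : Type u} [Field K] {G X Y Z : Over (Spec (CommRingCat.of K))} [GrpObj G]

set_option maxHeartbeats 1000000 in
/-- An equivariant monomorphism from a reduced homogeneous space is the orbit. -/
theorem exists_iso_orbit [LocallyOfFiniteType G.hom] [QuasiCompact G.hom]
    [LocallyOfFiniteType X.hom] [IsSeparated X.hom] [LocallyOfFiniteType Y.hom] [IsReduced Y.left]
    (a : AlgGrp.Action G X) (b : AlgGrp.Action G Y) (y : 𝟙_ (Over (Spec (CommRingCat.of K))) ⟶ Y)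
    (m : Y ⟶ X) [Mono m.left] (hm : (G ◁ m) ≫ a.act = b.act ≫ m)
    [Surjective (b.orbitMap y).left]
    (z : Z ⟶ X) [IsImmersion z.left] [IsReduced Z.left]
    (hz : Set.range z.left = Set.range (a.orbitMap (y ≫ m)).left) :
    ∃ e : Y ≅ Z, e.hom ≫ z = m := by
  let p := b.orbitMap y
  have hpm : p ≫ m = a.orbitMap (y ≫ m) := orbitMap_comp y m hm
  have hr : Set.range m.left = Set.range z.left := by
    rw [hz, ← hpm, Over.comp_left, Scheme.Hom.comp_base, TopCat.coe_comp, Set.range_comp,
      Set.range_eq_univ.mpr p.left.surjective, Set.image_univ]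
  have : Mono z.left := inferInstance
  have : Mono z := (Over.forget _).mono_of_mono_map ‹Mono z.left›
  obtain ⟨h₀, hh₀⟩ := exists_lift_of_range_subset z.left m.left hr.le
  let h : Y ⟶ Z := Over.homMk h₀ (by rw [← Over.w z, ← Category.assoc, hh₀, Over.w m])
  have hhz : h ≫ z = m := Over.OverMorphism.ext hh₀
  have : Surjective h.left := ⟨fun w => by
    obtain ⟨v, hv⟩ := hr.ge (Set.mem_range_self w)
    exact ⟨v, z.left.isEmbedding.injective (by
      rw [← Scheme.Hom.comp_apply, show h.left ≫ z.left = m.left from hh₀]; exact hv)⟩⟩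
  have : QuasiCompact Y.hom := by
    have : CompactSpace G.left := QuasiCompact.compactSpace_of_compactSpace G.hom
    have : CompactSpace Y.left := p.left.surjective.compactSpace p.left.continuous
    infer_instance
  have : LocallyOfFiniteType Z.hom := by rw [← Over.w z]; infer_instance
  have : QuasiCompact h.left := by
    have : QuasiCompact (h.left ≫ z.left) := by
      rw [show h.left ≫ z.left = m.left from hh₀]
      have : QuasiCompact (m.left ≫ X.hom) := by rw [Over.w m]; infer_instance
      exact QuasiCompact.of_comp m.left X.hom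
    exact QuasiCompact.of_comp h.left z.left
  have : LocallyOfFiniteType h.left := by
    have : LocallyOfFiniteType (h.left ≫ Z.hom) := by rw [Over.w h]; infer_instance
    exact locallyOfFiniteType_of_comp h.left Z.hom
  have : IsDominant h.left := inferInstance
  have : IsSchemeTheoreticallyDominant h.left := .of_isDominant _
  have : Mono h.left := by
    have : Mono (h.left ≫ z.left) := by
      rw [show h.left ≫ z.left = m.left from hh₀]; infer_instance
    exact mono_of_mono h.left z.left
  have : Flat G.hom := GrothLib.DiagGrp.flat_of_field _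
  have sqG := whiskerLeft_snd_isPullback G h
  have : Flat (snd G Z).left := inferInstanceAs (Flat (pullback.snd G.hom Z.hom))
  have : IsSchemeTheoreticallyDominant (G ◁ h).left :=
    IsSchemeTheoreticallyDominant.of_isPullback sqG.flip
  have : QuasiCompact (G ◁ h).left := MorphismProperty.of_isPullback sqG.flip ‹QuasiCompact h.left›
  have : Surjective (G ◁ h).left := MorphismProperty.of_isPullback sqG.flip ‹Surjective h.left›
  obtain ⟨c₀, hc₀⟩ := exists_lift_of_dominant (G ◁ h).left z.left ((G ◁ z) ≫ a.act).left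
    (b.act ≫ h).left (by
      rw [← Over.comp_left, ← Over.comp_left, Category.assoc, hhz, ← hm, ← Category.assoc (G ◁ h),
        ← MonoidalCategory.whiskerLeft_comp, hhz])
  let c : G ⊗ Z ⟶ Z := Over.homMk c₀ (by rw [← Over.w z, ← Category.assoc, hc₀]; exact Over.w _)
  have hc : c ≫ z = (G ◁ z) ≫ a.act := Over.OverMorphism.ext hc₀
  let az := liftAction a z c hc
  have hbc : (G ◁ h) ≫ c = b.act ≫ h := by
    rw [← cancel_mono z, Category.assoc, hc, Category.assoc, hhz, ← hm, ← Category.assoc (G ◁ h),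
      ← MonoidalCategory.whiskerLeft_comp, hhz]
  have hcf : Flat c.left := act_property @Flat az ‹Flat G.hom›
  have hbf : Flat b.act.left := act_property @Flat b ‹Flat G.hom›
  obtain ⟨U, hUd, hUf, -⟩ := Groth.Agent.S0414.result h.left
  let W := (snd G Z).left ⁻¹ᵁ U
  let V := (G ◁ h).left ⁻¹ᵁ W
  have : Flat ((G ◁ h).left ∣_ W) := flat_restrict_of_isPullback sqG U
  have hV : Flat (V.ι ≫ b.act.left ≫ h.left) := by
    rw [← Over.comp_left, ← hbc, Over.comp_left, ← morphismRestrict_ι_assoc]
    infer_instance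
  have : Flat (V.ι ≫ b.act.left) := inferInstance
  have : Surjective (V.ι ≫ b.act.left) := by
    refine ⟨fun w => ?_⟩
    have : Nonempty Z.left := ⟨h.left (y.left (IsLocalRing.closedPoint K))⟩
    obtain ⟨w₀, hw₀⟩ := hUd.nonempty
    obtain ⟨v₀, rfl⟩ := h.left.surjective w₀
    obtain ⟨g, rfl⟩ := p.left.surjective w
    obtain ⟨g₀, rfl⟩ := p.left.surjective v₀
    let ψ : G ⊗ G ⟶ G ⊗ Y := lift (fst G G * (snd G G)⁻¹) (snd G G ≫ p)
    have h1 : ψ ≫ snd G Y = snd G G ≫ p := lift_snd _ _
    have h2 : ψ ≫ b.act = fst G G ≫ p := by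
      apply hom_ext_points₂
      intro T g h
      simp [ψ, p, AlgGrp.Action.orbitMap, comp_lift_assoc, ← act_mul]
    obtain ⟨q, hq1, hq2⟩ := Scheme.Pullback.exists_preimage_pullback (f := G.hom) (g := G.hom) g g₀
      (Subsingleton.elim (α := Spec (CommRingCat.of K)) _ _)
    have hqV : ψ.left q ∈ V := by
      show ((G ◁ h).left ≫ (snd G Z).left) (ψ.left q) ∈ U
      rw [sqG.w, Scheme.Hom.comp_apply, ← Scheme.Hom.comp_apply ψ.left, ← Over.comp_left, h1,
        Over.comp_left, Scheme.Hom.comp_apply, show (snd G G).left q = g₀ from hq2]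
      exact hw₀
    refine ⟨⟨ψ.left q, hqV⟩, ?_⟩
    show (V.ι ≫ b.act.left) _ = _
    rw [Scheme.Hom.comp_apply]
    show b.act.left (ψ.left q) = _
    rw [← Scheme.Hom.comp_apply, ← Over.comp_left, h2, Over.comp_left, Scheme.Hom.comp_apply]
    exact congrArg p.left hq1
  have : Flat ((V.ι ≫ b.act.left) ≫ h.left) := by rwa [Category.assoc]
  have : Flat h.left := flat_of_flat_surjective_comp (V.ι ≫ b.act.left) h.left
  have := LocallyOfFiniteType.isLocallyNoetherian Z.hom
  have : IsOpenImmersion h.left := IsOpenImmersion.of_flat_of_mono _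
  have : IsIso h.left := isIso_of_isOpenImmersion_of_opensRange_eq_top h.left
    (TopologicalSpace.Opens.ext (Set.range_eq_univ.mpr h.left.surjective))
  have : IsIso ((Over.forget (Spec (CommRingCat.of K))).map h) := ‹IsIso h.left›
  have : IsIso h := isIso_of_reflects_iso h (Over.forget _)
  exact ⟨asIso h, hhz⟩

theorem cover_whiskerLeft {A B : Over (Spec (CommRingCat.of K))} (p : A ⟶ B) [Flat p.left]
    [Surjective p.left] [LocallyOfFinitePresentation p.left] (C : Over (Spec (CommRingCat.of K))) :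
    Flat (C ◁ p).left ∧ Surjective (C ◁ p).left ∧ LocallyOfFinitePresentation (C ◁ p).left :=
  have sq := whiskerLeft_snd_isPullback C p
  ⟨MorphismProperty.of_isPullback sq.flip ‹Flat p.left›,
    MorphismProperty.of_isPullback sq.flip ‹Surjective p.left›,
    MorphismProperty.of_isPullback sq.flip ‹LocallyOfFinitePresentation p.left›⟩

set_option maxHeartbeats 1000000 in
/-- The quotient by a stabiliser exists and maps monomorphically and equivariantly. -/
theorem exists_quotient [LocallyOfFiniteType G.hom] [LocallyOfFiniteType X.hom]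
    (a : AlgGrp.Action G X) (o : 𝟙_ (Over (Spec (CommRingCat.of K))) ⟶ X)
    {H : Over (Spec (CommRingCat.of K))} [GrpObj H] (i : H ⟶ G)
    (hH : IsPullback i (toUnit H) (a.orbitMap o) o) :
    ∃ (Q : Over (Spec (CommRingCat.of K))) (b : AlgGrp.Action G Q)
      (y : 𝟙_ (Over (Spec (CommRingCat.of K))) ⟶ Q) (m : Q ⟶ X),
      AGF.IsQuotient i Q b y ∧ (G ◁ m) ≫ a.act = b.act ≫ m ∧ y ≫ m = o ∧ Mono m.left := by
  have : Flat H.hom := GrothLib.DiagGrp.flat_of_field _
  obtain ⟨Q, p, m, hpm, hs, hf, hlfp, hm, hm', -, hQ, sq⟩ := exists_orbit_factor a o i hH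
  obtain ⟨_, _, _⟩ := cover_whiskerLeft p G
  obtain ⟨b₀, hb₀⟩ := exists_lift_of_cover (G ◁ p) m ((G ◁ m) ≫ a.act) (μ[G] ≫ p) (by
    rw [Category.assoc, hpm, ← whiskerLeft_orbitMap_act, ← hpm, MonoidalCategory.whiskerLeft_comp,
      Category.assoc])
  refine ⟨Q, liftAction a m b₀ hb₀, η[G] ≫ p, m, ?_, hb₀.symm, ?_, hm'⟩
  · have horb : (liftAction a m b₀ hb₀).orbitMap (η[G] ≫ p) = p := by
      rw [← cancel_mono m, orbitMap_comp _ m hb₀.symm, Category.assoc, hpm, unit_orbitMap]
    refine ⟨inferInstance, ?_⟩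
    rw [horb]
    exact ⟨hf, hs, sq.flip⟩
  · rw [Category.assoc, hpm, unit_orbitMap]

set_option maxHeartbeats 1000000 in
/-- Any quotient by a stabiliser maps monomorphically and equivariantly. -/
theorem exists_mono_of_isQuotient [LocallyOfFiniteType G.hom] [LocallyOfFiniteType X.hom]
    (a : AlgGrp.Action G X) (o : 𝟙_ (Over (Spec (CommRingCat.of K))) ⟶ X)
    {H : Over (Spec (CommRingCat.of K))} [GrpObj H] (i : H ⟶ G)
    (hH : IsPullback i (toUnit H) (a.orbitMap o) o)
    (b : AlgGrp.Action G Y) (y : 𝟙_ (Over (Spec (CommRingCat.of K))) ⟶ Y)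
    (hY : AGF.IsQuotient i Y b y) :
    ∃ m : Y ⟶ X, (G ◁ m) ≫ a.act = b.act ≫ m ∧ y ≫ m = o ∧ Mono m.left := by
  have : Flat H.hom := GrothLib.DiagGrp.flat_of_field _
  obtain ⟨Q, p', m₁, hpm, hs', hf', hlfp', hm, hm', -, hQ, sq'⟩ := exists_orbit_factor a o i hH
  obtain ⟨hYlft, hf, hs, sqY⟩ := hY
  have := LocallyOfFiniteType.isLocallyNoetherian Y.hom
  have : LocallyOfFinitePresentation (b.orbitMap y).left := by
    have : LocallyOfFiniteType ((b.orbitMap y).left ≫ Y.hom) := by rw [Over.w]; infer_instance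
    have := locallyOfFiniteType_of_comp (b.orbitMap y).left Y.hom
    infer_instance
  have sqQ := sq'.flip.map (Over.forget _)
  have sqY' := sqY.map (Over.forget _)
  let k₀ : Y.left ⟶ Q.left := EffectiveEpi.desc (b.orbitMap y).left p'.left fun {T} g₁ g₂ hg => by
    have := congrArg (fun r => sqY'.lift g₁ g₂ hg ≫ r) sqQ.w
    simp only [Over.forget_map, ← Category.assoc, IsPullback.lift_fst, IsPullback.lift_snd] at this
    exact this
  let k₁ : Q.left ⟶ Y.left := EffectiveEpi.desc p'.left (b.orbitMap y).left fun {T} g₁ g₂ hg => by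
    have := congrArg (fun r => sqQ.lift g₁ g₂ hg ≫ r) sqY'.w
    simp only [Over.forget_map, ← Category.assoc, IsPullback.lift_fst, IsPullback.lift_snd] at this
    exact this
  have hk₀ : (b.orbitMap y).left ≫ k₀ = p'.left := EffectiveEpi.fac _ _ _
  have hk₁ : p'.left ≫ k₁ = (b.orbitMap y).left := EffectiveEpi.fac _ _ _
  have : IsIso k₀ := ⟨k₁, by rw [← cancel_epi (b.orbitMap y).left, reassoc_of% hk₀, hk₁, Category.comp_id],
    by rw [← cancel_epi p'.left, reassoc_of% hk₁, hk₀, Category.comp_id]⟩
  let k : Y ⟶ Q := Over.homMk k₀ (by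
    rw [← cancel_epi (b.orbitMap y).left, reassoc_of% hk₀, Over.w p', Over.w])
  have hk : b.orbitMap y ≫ k = p' := Over.OverMorphism.ext hk₀
  obtain ⟨_, _, _⟩ := cover_whiskerLeft (b.orbitMap y) G
  have : Epi (G ◁ b.orbitMap y) := (Over.forget _).epi_of_epi_map
    (inferInstanceAs (Epi (G ◁ b.orbitMap y).left))
  refine ⟨k ≫ m₁, ?_, ?_, ?_⟩
  · rw [← cancel_epi (G ◁ b.orbitMap y), ← MonoidalCategory.whiskerLeft_comp_assoc,
      reassoc_of% hk, hpm, whiskerLeft_orbitMap_act, ← Category.assoc (G ◁ b.orbitMap y),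
      whiskerLeft_orbitMap_act, Category.assoc, reassoc_of% hk, hpm]
  · rw [← unit_orbitMap b y, Category.assoc, reassoc_of% hk, hpm, unit_orbitMap]
  · show Mono (k₀ ≫ m₁.left)
    infer_instance

end GrothLib.FlatFactor
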