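import Mathlib.AlgebraicGeometry.Gluing
import Mathlib.AlgebraicGeometry.Morphisms.OpenImmersion

/-!
# Gluing subobjects along open intersections
-/

universe u

open CategoryTheory CategoryTheory.Limits AlgebraicGeometry

namespace GrothLib.FlatFactor

variable {X : Scheme.{u}} {ι : Type u} {Q : ι → Scheme.{u}} (v : ∀ i, Q i ⟶ X) [∀ i, Mono (v i)]
  [∀ i j, IsOpenImmersion (pullback.fst (v i) (v j))]

/-- The transition maps on triple intersections. -/
noncomputable def monoT' (i j k : ι) :
    pullback (pullback.fst (v i) (v j)) (pullback.fst (v i) (v k)) ⟶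
      pullback (pullback.fst (v j) (v k)) (pullback.fst (v j) (v i)) :=
  pullback.lift
    (pullback.lift (pullback.fst _ _ ≫ pullback.snd _ _) (pullback.snd _ _ ≫ pullback.snd _ _) (by
      rw [Category.assoc, Category.assoc, ← pullback.condition, ← pullback.condition,
        ← Category.assoc, ← Category.assoc, pullback.condition]))
    (pullback.fst _ _ ≫ (pullbackSymmetry (v i) (v j)).hom) (by
      rw [pullback.lift_fst, Category.assoc, pullbackSymmetry_hom_comp_fst])

theorem monoT'_comp (i j k : ι) : monoT' v i j k ≫ pullback.fst _ _ ≫ pullback.fst _ _ ≫ v j =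
    pullback.fst _ _ ≫ pullback.fst _ _ ≫ v i := by
  rw [monoT', pullback.lift_fst_assoc, pullback.lift_fst_assoc, Category.assoc, pullback.condition]

/-- The gluing data. -/
noncomputable def monoGlueData : Scheme.GlueData where
  J := ι
  U := Q
  V p := pullback (v p.1) (v p.2)
  f i j := pullback.fst (v i) (v j)
  f_mono i j := inferInstance
  f_id i := inferInstanceAs (IsIso (pullback.fst (v i) (v i)))
  t i j := (pullbackSymmetry (v i) (v j)).hom
  t_id i := by
    apply pullback.hom_ext <;> simp [← cancel_mono (v i), pullback.condition]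
  t' := monoT' v
  t_fac i j k := pullback.lift_snd _ _ _
  cocycle i j k := by
    have : Mono (pullback.fst (pullback.fst (v i) (v j)) (pullback.fst (v i) (v k)) ≫
        pullback.fst (v i) (v j) ≫ v i) := inferInstance
    rw [← cancel_mono (pullback.fst (pullback.fst (v i) (v j)) (pullback.fst (v i) (v k)) ≫
      pullback.fst (v i) (v j) ≫ v i)]
    rw [Category.assoc, Category.assoc, Category.id_comp, monoT'_comp, monoT'_comp, monoT'_comp]
  f_open := inferInstance

/-- Monomorphisms with open intersections glue to a monomorphism. -/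
theorem exists_glue_mono : ∃ (Q' : Scheme.{u}) (m : Q' ⟶ X) (e : ∀ i, Q i ⟶ Q'),
    Mono m ∧ (∀ i, IsOpenImmersion (e i)) ∧ (∀ i, e i ≫ m = v i) ∧
      ∀ q : Q', ∃ i z, e i z = q := by
  let D := monoGlueData v
  have hglue : ∀ i j, pullback.fst (v i) (v j) ≫ D.ι i = pullback.snd (v i) (v j) ≫ D.ι j := fun i j => by
    have h := D.glue_condition i j
    change (pullbackSymmetry (v i) (v j)).hom ≫ pullback.fst (v j) (v i) ≫ D.ι j =
      pullback.fst (v i) (v j) ≫ D.ι i at h
    rw [← h, ← Category.assoc, pullbackSymmetry_hom_comp_fst]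
  let m : D.glued ⟶ X := Multicoequalizer.desc _ _ v (by
    rintro ⟨i, j⟩
    change pullback.fst (v i) (v j) ≫ v i =
      ((pullbackSymmetry (v i) (v j)).hom ≫ pullback.fst (v j) (v i)) ≫ v j
    rw [pullbackSymmetry_hom_comp_fst, pullback.condition])
  have hm : ∀ i, D.ι i ≫ m = v i := fun i => Multicoequalizer.π_desc D.diagram X v _ i
  have hι : ∀ i : D.J, IsOpenImmersion (D.ι i) := fun i => D.ι_isOpenImmersion i
  refine ⟨D.glued, m, D.ι, ⟨fun {T} a b hab => ?_⟩, hι, hm,
    fun q => D.ι_jointly_surjective q⟩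
  refine Scheme.hom_ext_of_forall _ _ fun t => ?_
  obtain ⟨i, z, hz⟩ := D.ι_jointly_surjective (a t)
  have := hι i
  obtain ⟨j, z', hz'⟩ := D.ι_jointly_surjective (b t)
  have := hι j
  let W : T.Opens := a ⁻¹ᵁ (D.ι i).opensRange ⊓ b ⁻¹ᵁ (D.ι j).opensRange
  refine ⟨W, ⟨⟨z, hz⟩, ⟨z', hz'⟩⟩, ?_⟩
  let a' : W.toScheme ⟶ D.U i := IsOpenImmersion.lift (D.ι i) (W.ι ≫ a) (by
    rintro _ ⟨w, rfl⟩; exact w.2.1)
  let b' : W.toScheme ⟶ D.U j := IsOpenImmersion.lift (D.ι j) (W.ι ≫ b) (by
    rintro _ ⟨w, rfl⟩; exact w.2.2)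
  have ha : a' ≫ D.ι i = W.ι ≫ a := IsOpenImmersion.lift_fac _ _ _
  have hb : b' ≫ D.ι j = W.ι ≫ b := IsOpenImmersion.lift_fac _ _ _
  have hab' : a' ≫ v i = b' ≫ v j := by
    rw [← hm i, ← hm j, reassoc_of% ha, reassoc_of% hb, hab]
  refine ha.symm.trans (Eq.trans ?_ hb)
  refine (congrArg (· ≫ D.ι i) (pullback.lift_fst a' b' hab')).symm.trans ?_
  refine (Category.assoc _ _ _).trans ((congrArg (pullback.lift a' b' hab' ≫ ·) (hglue i j)).trans ?_)
  exact (Category.assoc _ _ _).symm.trans (congrArg (· ≫ D.ι j) (pullback.lift_snd a' b' hab'))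

end GrothLib.FlatFactor
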