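import Groth.Agent.Lib.FlatFactor.Main
import Groth.Agent.Lib.FlatFactor.GlueMono
import Groth.Agent.Lib.GrpSchField.Pts
import Mathlib.AlgebraicGeometry.Morphisms.FlatMono

/-!
# Factorisations through monomorphisms over a locally noetherian base
-/

universe u

open CategoryTheory CategoryTheory.Limits AlgebraicGeometry TensorProduct

namespace GrothLib.FlatFactor

/-- A subalgebra of finite type separating the same pairs of points of a noetherian algebra. -/
theorem exists_fg_separating {R A B : Type u} [CommRing R] [CommRing A] [CommRing B]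
    [Algebra R A] [Algebra R B] [Algebra A B] [IsScalarTower R A B] [IsNoetherianRing (B ⊗[R] B)] :
    ∃ A₀ : Subalgebra R A, A₀.FG ∧ ∀ (C : Type u) [CommRing C] (β₁ β₂ : B →+* C),
      β₁.comp (algebraMap R B) = β₂.comp (algebraMap R B) →
      (∀ a ∈ A₀, β₁ (algebraMap A B a) = β₂ (algebraMap A B a)) →
      β₁.comp (algebraMap A B) = β₂.comp (algebraMap A B) := by
  classical
  let δ : A → B ⊗[R] B := fun a => algebraMap A B a ⊗ₜ 1 - 1 ⊗ₜ algebraMap A B a
  obtain ⟨t, ht, hspan⟩ := (Submodule.fg_span_iff_fg_span_finset_subset (R := B ⊗[R] B) (Set.range δ)).1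
    (IsNoetherian.noetherian _)
  have hsub : ∀ d ∈ t, ∃ a, δ a = d := fun d hd => ht hd
  choose a ha using hsub
  refine ⟨Algebra.adjoin R ((t.attach.image fun d => a d.1 d.2 : Finset A) : Set A),
    Subalgebra.fg_adjoin_finset _, fun C _ β₁ β₂ hR hA => RingHom.ext fun x => ?_⟩
  letI : Algebra R C := (β₁.comp (algebraMap R B)).toAlgebra
  let γ₁ : B →ₐ[R] C := { β₁ with commutes' := fun _ => rfl }
  let γ₂ : B →ₐ[R] C := { β₂ with commutes' := fun r => (RingHom.congr_fun hR r).symm }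
  let γ : B ⊗[R] B →ₐ[R] C := Algebra.TensorProduct.lift γ₁ γ₂ fun _ _ => Commute.all _ _
  have hγ : ∀ y, γ (δ y) = β₁ (algebraMap A B y) - β₂ (algebraMap A B y) := fun y => by
    rw [map_sub, Algebra.TensorProduct.lift_tmul, Algebra.TensorProduct.lift_tmul, map_one, map_one,
      mul_one, one_mul]
    rfl
  have hker : Submodule.span (B ⊗[R] B) (Set.range δ) ≤ RingHom.ker γ.toRingHom := by
    rw [hspan, Submodule.span_le]
    intro d hd
    show γ d = 0
    rw [← ha d hd, hγ, sub_eq_zero]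
    exact hA _ (Algebra.subset_adjoin (Finset.mem_coe.2
      (Finset.mem_image.2 ⟨⟨d, hd⟩, Finset.mem_attach _ _, rfl⟩)))
  have := hker (Submodule.subset_span ⟨x, rfl⟩)
  rwa [RingHom.mem_ker, AlgHom.toRingHom_eq_coe, RingHom.coe_coe, hγ, sub_eq_zero] at this

variable {G X S : Scheme.{u}} (f : G ⟶ X) (σX : X ⟶ S) [LocallyOfFiniteType (f ≫ σX)]
  [IsLocallyNoetherian S] [Flat (pullback.fst f f)]

set_option maxHeartbeats 1000000 in
/-- Local factorisation over a locally noetherian base. -/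
theorem exists_local_factor (x : G) :
    ∃ (W : G.Opens) (Q : Scheme.{u}) (p : W.toScheme ⟶ Q) (v : Q ⟶ X), x ∈ W ∧
      Surjective p ∧ Flat p ∧ LocallyOfFinitePresentation p ∧ Mono v ∧
      LocallyOfFiniteType (v ≫ σX) ∧ p ≫ v = W.ι ≫ f := by
  obtain ⟨_, ⟨U, hU, rfl⟩, hxU, -⟩ := S.isBasis_affineOpens.exists_subset_of_mem_open
    (Set.mem_univ (σX (f x))) isOpen_univ
  obtain ⟨_, ⟨V, hV, rfl⟩, hxV, hVU : V ≤ σX ⁻¹ᵁ U⟩ :=
    X.isBasis_affineOpens.exists_subset_of_mem_open hxU (σX ⁻¹ᵁ U).2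
  obtain ⟨_, ⟨W, hW, rfl⟩, hxW, hWV : W ≤ f ⁻¹ᵁ V⟩ :=
    G.isBasis_affineOpens.exists_subset_of_mem_open hxV (f ⁻¹ᵁ V).2
  let R := Γ(S, U)
  let A := Γ(X, V)
  let B := Γ(G, W)
  let φA := σX.appLE U V hVU
  let φB := f.appLE V W hWV
  have hAB : φA ≫ φB = (f ≫ σX).appLE U W (hWV.trans (Scheme.Hom.preimage_mono _ hVU)) :=
    Scheme.Hom.appLE_comp_appLE _ _ _ _ _ _ _
  have hRB : (φA ≫ φB).hom.FiniteType := hAB ▸ (f ≫ σX).finiteType_appLE hU hW _
  have : IsNoetherianRing R := IsLocallyNoetherian.component_noetherian ⟨U, hU⟩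
  algebraize [φA.hom, φB.hom, φB.hom.comp φA.hom]
  have : Algebra.FiniteType R B := hRB
  have : IsNoetherianRing B := Algebra.FiniteType.isNoetherianRing R B
  have : IsNoetherianRing (B ⊗[R] B) := Algebra.FiniteType.isNoetherianRing B _
  obtain ⟨A₀, hA₀, hsep⟩ := exists_fg_separating (R := R) (A := A) (B := B)
  haveI : Algebra.FiniteType R A₀ := (Subalgebra.fg_iff_finiteType A₀).1 hA₀
  haveI : IsNoetherianRing A₀ := Algebra.FiniteType.isNoetherianRing R A₀
  let ιA : CommRingCat.of A₀ ⟶ A := CommRingCat.ofHom A₀.val.toRingHom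
  let gA : (Scheme.Opens.toScheme W) ⟶ Spec A := hW.isoSpec.hom ≫ Spec.map φB
  let g : (Scheme.Opens.toScheme W) ⟶ Spec (CommRingCat.of A₀) := gA ≫ Spec.map ιA
  let iV := hV.fromSpec
  have hgA : gA ≫ iV = (Scheme.Opens.ι W) ≫ f := by
    rw [Category.assoc, IsAffineOpen.SpecMap_appLE_fromSpec f hV hW hWV, ← Category.assoc,
      hW.isoSpec_hom_fromSpec]
  -- the agreement
  have hagree : ∀ (T : Scheme.{u}) (b₁ b₂ : T ⟶ (Scheme.Opens.toScheme W)), b₁ ≫ g = b₂ ≫ g →
      b₁ ≫ gA = b₂ ≫ gA := by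
    intro T b₁ b₂ hb
    refine Scheme.Cover.hom_ext T.affineCover _ _ fun j => ?_
    obtain ⟨β₁, hβ₁⟩ := Spec.map_surjective (T.affineCover.f j ≫ b₁ ≫ hW.isoSpec.hom)
    obtain ⟨β₂, hβ₂⟩ := Spec.map_surjective (T.affineCover.f j ≫ b₂ ≫ hW.isoSpec.hom)
    have hb' : ιA ≫ φB ≫ β₁ = ιA ≫ φB ≫ β₂ := Spec.map_injective (by
      simp only [Spec.map_comp, hβ₁, hβ₂, Category.assoc]
      exact congrArg (T.affineCover.f j ≫ ·) (by simpa [g, gA] using hb))
    have h1 : φB ≫ β₁ = φB ≫ β₂ := CommRingCat.hom_ext (hsep _ β₁.hom β₂.hom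
      (RingHom.ext fun r => RingHom.congr_fun (congrArg CommRingCat.Hom.hom hb')
        ⟨algebraMap R A r, A₀.algebraMap_mem r⟩)
      (fun a ha => RingHom.congr_fun (congrArg CommRingCat.Hom.hom hb') ⟨a, ha⟩))
    have h2 := congrArg Spec.map h1
    rw [Spec.map_comp, Spec.map_comp, hβ₁, hβ₂] at h2
    simp only [gA]
    exact h2
  have hg : LocallyOfFinitePresentation g := by
    have h1 : (ιA ≫ φB).hom.FinitePresentation := by
      algebraize [(ιA ≫ φB).hom]
      haveI : IsScalarTower R A₀ B := IsScalarTower.of_algebraMap_eq fun r => by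
        show (φB.hom.comp φA.hom) r = φB.hom (A₀.val (algebraMap R A₀ r))
        rfl
      haveI : Algebra.FiniteType A₀ B := Algebra.FiniteType.of_restrictScalars_finiteType R A₀ B
      exact RingHom.finitePresentation_algebraMap.2 (Algebra.FinitePresentation.of_finiteType.1 inferInstance)
    have : LocallyOfFinitePresentation (Spec.map (ιA ≫ φB)) :=
      (HasRingHomProperty.Spec_iff (P := @LocallyOfFinitePresentation)).2 h1
    show LocallyOfFinitePresentation ((hW.isoSpec.hom ≫ Spec.map φB) ≫ Spec.map ιA)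
    rw [Category.assoc, ← Spec.map_comp]
    infer_instance
  -- the square
  let fW := (Scheme.Opens.ι W) ≫ f
  have : Flat (pullback.fst fW fW) := by
    let e : pullback fW fW ⟶ pullback f f := pullback.map fW fW f f (Scheme.Opens.ι W) (Scheme.Opens.ι W) (𝟙 X)
      (by rw [Category.comp_id]) (by rw [Category.comp_id])
    have h1 : Flat (e ≫ pullback.fst f f) := inferInstance
    have h2 : Flat (pullback.fst fW fW ≫ (Scheme.Opens.ι W)) := by
      rw [pullback.lift_fst] at h1; exact h1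
    exact MorphismProperty.of_postcomp @Flat _ (Scheme.Opens.ι W) (W' := @IsOpenImmersion) inferInstance h2
  have sq : IsPullback (pullback.fst fW fW) (pullback.snd fW fW) g g := by
    have hw : pullback.fst fW fW ≫ gA = pullback.snd fW fW ≫ gA := by
      exact (cancel_mono iV).1 ((Category.assoc _ gA iV).trans
        ((congrArg (pullback.fst fW fW ≫ ·) hgA).trans (pullback.condition.trans
          ((congrArg (pullback.snd fW fW ≫ ·) hgA).symm.trans (Category.assoc _ gA iV).symm))))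
    refine ⟨⟨by simp only [g]; rw [reassoc_of% hw]⟩, ⟨PullbackCone.IsLimit.mk _
      (fun s => pullback.lift s.fst s.snd (by
        show s.fst ≫ (Scheme.Opens.ι W) ≫ f = s.snd ≫ (Scheme.Opens.ι W) ≫ f
        rw [← hgA, reassoc_of% hagree _ _ _ s.condition]))
      (fun s => pullback.lift_fst _ _ _) (fun s => pullback.lift_snd _ _ _) fun s m h₁ h₂ => ?_⟩⟩
    apply pullback.hom_ext
    · rw [h₁, pullback.lift_fst]
    · rw [h₂, pullback.lift_snd]
  have : Flat (pullback.fst g g) := by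
    rw [← sq.isoPullback_inv_fst]
    infer_instance
  obtain ⟨Q, p, m, hps, hpf, hpp, hm, hmt, hpm⟩ := exists_factor g
  let n : Q ⟶ Spec A := EffectiveEpi.desc p gA fun {T} b₁ b₂ hb => hagree T b₁ b₂ (by
    rw [← hpm, reassoc_of% hb])
  have hpn : p ≫ n = gA := EffectiveEpi.fac _ _ _
  have hnm : n ≫ Spec.map ιA = m := by
    rw [← cancel_epi p, reassoc_of% hpn, hpm]
  have : Mono n := by
    have : Mono (n ≫ Spec.map ιA) := by rw [hnm]; infer_instance
    exact mono_of_mono n (Spec.map ιA)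
  refine ⟨W, Q, p, n ≫ iV, hxW, hps, hpf, hpp, inferInstance, ?_, by rw [reassoc_of% hpn, hgA]⟩
  have hσ : (n ≫ iV) ≫ σX = m ≫ Spec.map (CommRingCat.ofHom (algebraMap R A₀)) ≫ hU.fromSpec := by
    rw [← hnm, Category.assoc, Category.assoc, ← IsAffineOpen.SpecMap_appLE_fromSpec σX hU hV hVU,
      ← Spec.map_comp_assoc]
    rfl
  rw [hσ]
  have : LocallyOfFiniteType (Spec.map (CommRingCat.ofHom (algebraMap R A₀))) :=
    (HasRingHomProperty.Spec_iff (P := @LocallyOfFiniteType)).2 (RingHom.finiteType_algebraMap.2 inferInstance)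
  infer_instance

include σX in
set_option maxHeartbeats 1000000 in
/-- A map of schemes of finite type over a locally noetherian base into any scheme, with flat
square, factors as a faithfully flat map followed by a monomorphism. -/
theorem exists_factor_of_noetherian :
    ∃ (Q : Scheme.{u}) (p : G ⟶ Q) (m : Q ⟶ X), Surjective p ∧ Flat p ∧
      LocallyOfFinitePresentation p ∧ Mono m ∧ p ≫ m = f := by
  choose W Qi pi vi hx hps hpf hpp hvm hvt hw using exists_local_factor f σX
  have hLN : ∀ i, IsLocallyNoetherian (Qi i) := fun i =>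
    LocallyOfFiniteType.isLocallyNoetherian (vi i ≫ σX)
  have hopen : ∀ i j, IsOpenImmersion (pullback.fst (vi i) (vi j)) := by
    intro i j
    have := hvt i
    have := hvt j
    have : LocallyOfFiniteType (vi j) := locallyOfFiniteType_of_comp _ σX
    have := GrothLib.GrpSchField.lfp_of_isLocallyNoetherian (pullback.fst (vi i) (vi j))
    let P := pullback ((W i).ι ≫ f) ((W j).ι ≫ f)
    let c : P ⟶ pullback (vi i) (vi j) := pullback.map _ _ _ _ (pi i) (pi j) (𝟙 X)
      (by rw [Category.comp_id, hw]) (by rw [Category.comp_id, hw])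
    have hc₁ : Flat c :=
      MorphismProperty.pullbackMap (P := @Flat) (hpf i) (hpf j) (hw i).symm (hw j).symm
    have hc₂ : Surjective c :=
      MorphismProperty.pullbackMap (P := @Surjective) (hps i) (hps j) (hw i).symm (hw j).symm
    have : Flat (pullback.fst ((W i).ι ≫ f) ((W j).ι ≫ f)) := by
      let e : P ⟶ pullback f f := pullback.map _ _ f f (W i).ι (W j).ι (𝟙 X)
        (by rw [Category.comp_id]) (by rw [Category.comp_id])
      have h1 : Flat (e ≫ pullback.fst f f) := inferInstance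
      rw [pullback.lift_fst] at h1
      exact MorphismProperty.of_postcomp @Flat _ (W i).ι (W' := @IsOpenImmersion) inferInstance h1
    have : Flat (c ≫ pullback.fst (vi i) (vi j)) := by
      rw [pullback.lift_fst]
      have := hpf i
      infer_instance
    have : Flat (pullback.fst (vi i) (vi j)) := GrothLib.AlgSp.srcDescends_flat c _ hc₁ hc₂ this
    exact IsOpenImmersion.of_flat_of_mono _
  obtain ⟨Q, m, e, hm, he, hem, hcov⟩ := exists_glue_mono vi
  let 𝒰 : G.OpenCover := Scheme.Cover.mkOfCovers (P := @IsOpenImmersion) G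
    (fun i => (W i).toScheme) (fun i => (W i).ι) (fun z => ⟨z, ⟨z, hx z⟩, rfl⟩) (fun _ => inferInstance)
  let p : G ⟶ Q := 𝒰.glueMorphisms (fun i => pi i ≫ e i) fun i j => by
    rw [← cancel_mono m]
    simp only [Category.assoc, hem]
    show pullback.fst (W i).ι (W j).ι ≫ pi i ≫ vi i = pullback.snd (W i).ι (W j).ι ≫ pi j ≫ vi j
    rw [hw, hw, pullback.condition_assoc]
  have hιp : ∀ i, (W i).ι ≫ p = pi i ≫ e i := fun i => 𝒰.ι_glueMorphisms _ _ i
  refine ⟨Q, p, m, ⟨fun q => ?_⟩, ?_, ?_, hm, ?_⟩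
  · obtain ⟨i, z, rfl⟩ := hcov q
    obtain ⟨w, rfl⟩ := (hps i).surj z
    exact ⟨(W i).ι w, by rw [← Scheme.Hom.comp_apply, hιp]; rfl⟩
  · rw [IsZariskiLocalAtSource.iff_of_openCover (P := @Flat) 𝒰]
    intro i
    change Flat ((W i).ι ≫ p)
    rw [hιp]
    have := hpf i
    infer_instance
  · rw [IsZariskiLocalAtSource.iff_of_openCover (P := @LocallyOfFinitePresentation) 𝒰]
    intro i
    change LocallyOfFinitePresentation ((W i).ι ≫ p)
    rw [hιp]
    have := hpp i
    infer_instance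
  · refine 𝒰.hom_ext _ _ fun i => ?_
    change (W i).ι ≫ p ≫ m = (W i).ι ≫ f
    rw [reassoc_of% (hιp i), hem, hw]

end GrothLib.FlatFactor
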