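import Groth.Agent.Lib.FlatFactor.Main
import Groth.Agent.Lib.FlatFactor.Noetherian
import Groth.Agent.Lib.GrpSchField.Shear
import Groth.Agent.Lib.AntiAffine.ClosedSubgrp
import Groth.Agent.Lib.DiagGrp.KernelFP

/-!
# Orbit maps with flat stabiliser factor through monomorphisms
-/

universe u

open CategoryTheory CategoryTheory.Limits MonoidalCategory CartesianMonoidalCategory MonObj GrpObj
open AlgebraicGeometry

namespace GrothLib.FlatFactor

open GrothLib.GrpSchField

variable {S : Scheme.{u}}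

/-- A square which is cartesian after composing with a monomorphism is cartesian. -/
theorem isPullback_cancel_mono {C : Type*} [Category C] {P A B D E : C} {a : P ⟶ A} {b : P ⟶ B}
    {f : A ⟶ D} {g : B ⟶ D} {f' : A ⟶ E} {g' : B ⟶ E} (j : D ⟶ E) [Mono j]
    (hf : f ≫ j = f') (hg : g ≫ j = g') (sq : IsPullback a b f' g') : IsPullback a b f g := by
  subst hf hg
  have w : a ≫ f = b ≫ g := by rw [← cancel_mono j, Category.assoc, Category.assoc]; exact sq.w
  exact ⟨⟨w⟩, ⟨PullbackCone.IsLimit.mk _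
    (fun s => sq.lift s.fst s.snd (by rw [reassoc_of% s.condition]))
    (fun s => sq.lift_fst _ _ _) (fun s => sq.lift_snd _ _ _)
    fun s m h₁ h₂ => sq.hom_ext (by rw [sq.lift_fst, h₁]) (by rw [sq.lift_snd, h₂])⟩⟩

variable {G X : Over S} [GrpObj G] (a : AlgGrp.Action G X) (ξ : 𝟙_ (Over S) ⟶ X)

theorem comp_orbitMap {T : Over S} (g : T ⟶ G) :
    g ≫ a.orbitMap ξ = lift g (toUnit T ≫ ξ) ≫ a.act := by
  rw [AlgGrp.Action.orbitMap, comp_lift_assoc, Category.comp_id, comp_toUnit_assoc]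

/-- The orbit map identifies pairs in the same fibre with translates by the stabiliser. -/
theorem orbit_isPullback {H : Over S} (h : H ⟶ G)
    (hH : IsPullback h (toUnit H) (a.orbitMap ξ) ξ) :
    IsPullback ((G ◁ h) ≫ μ[G]) (fst G H) (a.orbitMap ξ) (a.orbitMap ξ) := by
  have hmul : ∀ {T : Over S} (g : T ⟶ G) (k : T ⟶ H),
      (lift g k) ≫ (G ◁ h) ≫ μ[G] = g * (k ≫ h) := fun g k => by
    rw [lift_whiskerLeft_assoc, ← Hom.mul_def]
  have hfix : ∀ {T : Over S} (k : T ⟶ H), lift (k ≫ h) (toUnit T ≫ ξ) ≫ a.act = toUnit T ≫ ξ :=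
    fun {T} k => by
      rw [← comp_orbitMap, Category.assoc, hH.w, ← Category.assoc, toUnit_unique (k ≫ toUnit H) (toUnit T)]
  refine ⟨⟨?_⟩, ⟨PullbackCone.IsLimit.mk _ (fun s => lift s.snd (hH.lift (s.snd⁻¹ * s.fst) (toUnit _) ?_))
    (fun s => ?_) (fun s => lift_fst _ _) fun s m h₁ h₂ => ?_⟩⟩
  · apply hom_ext_points₂
    intro T g k
    rw [← Category.assoc, hmul, lift_fst_assoc, comp_orbitMap, comp_orbitMap, act_mul, hfix]
  · have hc : lift s.fst (toUnit s.pt ≫ ξ) ≫ a.act = lift s.snd (toUnit s.pt ≫ ξ) ≫ a.act := by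
      rw [← comp_orbitMap, ← comp_orbitMap]; exact s.condition
    rw [comp_orbitMap, act_mul, hc, ← act_mul, inv_mul_cancel, act_one]
  · rw [hmul, hH.lift_fst, mul_inv_cancel_left]
  · apply CartesianMonoidalCategory.hom_ext
    · rw [lift_fst, h₂]
    · rw [lift_snd]
      refine hH.hom_ext ?_ (toUnit_unique _ _)
      have e : m = lift (m ≫ fst G H) (m ≫ snd G H) := (lift_fst_snd_comp m).symm
      rw [hH.lift_fst, ← h₁, e, hmul, h₂, lift_snd, inv_mul_cancel_left]

omit [GrpObj G] in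
/-- Factorisation of a morphism with flat square into an `S`-scheme locally of finite type, or
over a locally noetherian base. -/
theorem exists_factor_or [LocallyOfFinitePresentation G.hom] (u : G ⟶ X)
    (hX : LocallyOfFiniteType X.hom ∨ IsLocallyNoetherian S) [Flat (pullback.fst u.left u.left)] :
    ∃ (Q : Scheme.{u}) (f' : G.left ⟶ Q) (m : Q ⟶ X.left), Surjective f' ∧ Flat f' ∧
      LocallyOfFinitePresentation f' ∧ Mono m ∧ f' ≫ m = u.left := by
  have hu : LocallyOfFinitePresentation (u.left ≫ X.hom) := by rw [Over.w u]; infer_instance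
  rcases hX with hX | hS
  · have := GrothLib.DiagGrp.lfp_of_comp_of_lft u.left X.hom hu hX
    obtain ⟨Q, f', m, h₁, h₂, h₃, h₄, -, hw⟩ := exists_factor u.left
    exact ⟨Q, f', m, h₁, h₂, h₃, h₄, hw⟩
  · exact exists_factor_of_noetherian u.left X.hom

set_option maxHeartbeats 1000000 in
/-- The orbit map of a section with flat stabiliser factors as a faithfully flat map followed by a
monomorphism. -/
theorem exists_orbit_factor' [LocallyOfFinitePresentation G.hom]
    (hX : LocallyOfFiniteType X.hom ∨ IsLocallyNoetherian S) {H : Over S} (h : H ⟶ G)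
    (hH : IsPullback h (toUnit H) (a.orbitMap ξ) ξ) [Flat H.hom] :
    ∃ (Q : Over S) (p : G ⟶ Q) (i : Q ⟶ X), p ≫ i = a.orbitMap ξ ∧
      Surjective p.left ∧ Flat p.left ∧ LocallyOfFinitePresentation p.left ∧ Mono i ∧ Mono i.left ∧
      LocallyOfFinitePresentation Q.hom ∧ IsPullback ((G ◁ h) ≫ μ[G]) (fst G H) p p := by
  let f := (a.orbitMap ξ).left
  have sq := orbit_isPullback a ξ h hH
  have sq' := sq.map (Over.forget S)
  have : Flat (fst G H).left := inferInstanceAs (Flat (pullback.fst G.hom H.hom))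
  have : Flat (pullback.fst f f) := by
    have e : sq'.flip.isoPullback.inv ≫ (fst G H).left = pullback.fst f f :=
      sq'.flip.isoPullback_inv_fst
    rw [← e]
    exact MorphismProperty.comp_mem @Flat sq'.flip.isoPullback.inv (fst G H).left inferInstance
      ‹Flat (fst G H).left›
  obtain ⟨X', f', m, h₁, h₂, h₃, h₄, hw⟩ := exists_factor_or (a.orbitMap ξ) hX
  let Q : Over S := Over.mk (m ≫ X.hom)
  let p : G ⟶ Q := Over.homMk f' (by
    show f' ≫ m ≫ X.hom = G.hom
    rw [reassoc_of% hw]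
    exact Over.w _)
  let i : Q ⟶ X := Over.homMk m rfl
  have hpi : p ≫ i = a.orbitMap ξ := Over.OverMorphism.ext hw
  have : Mono i.left := h₄
  have hi : Mono i := (Over.forget S).mono_of_mono_map ‹_›
  refine ⟨Q, p, i, hpi, h₁, h₂, h₃, hi, h₄, ?_, isPullback_cancel_mono i hpi hpi sq⟩
  have : LocallyOfFinitePresentation (f' ≫ Q.hom) := by
    rw [show f' ≫ Q.hom = G.hom from Over.w p]; infer_instance
  exact GrothLib.AlgSp.srcDescends_fppf GrothLib.FppfSource.fppfSourceDescends_lfp f' Q.hom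
    ⟨h₂, h₃⟩ h₁ this

/-- The orbit map of a section with flat stabiliser, into a scheme locally of finite type. -/
theorem exists_orbit_factor [LocallyOfFinitePresentation G.hom] [LocallyOfFiniteType X.hom]
    {H : Over S} (h : H ⟶ G) (hH : IsPullback h (toUnit H) (a.orbitMap ξ) ξ) [Flat H.hom] :
    ∃ (Q : Over S) (p : G ⟶ Q) (i : Q ⟶ X), p ≫ i = a.orbitMap ξ ∧
      Surjective p.left ∧ Flat p.left ∧ LocallyOfFinitePresentation p.left ∧ Mono i ∧ Mono i.left ∧
      LocallyOfFiniteType i.left ∧ LocallyOfFinitePresentation Q.hom ∧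
      IsPullback ((G ◁ h) ≫ μ[G]) (fst G H) p p := by
  obtain ⟨Q, p, i, hpi, h₁, h₂, h₃, hi, hi', hQ, sq⟩ :=
    exists_orbit_factor' a ξ (Or.inl inferInstance) h hH
  have : LocallyOfFiniteType (i.left ≫ X.hom) := by rw [Over.w i]; infer_instance
  exact ⟨Q, p, i, hpi, h₁, h₂, h₃, hi, hi', locallyOfFiniteType_of_comp _ X.hom, hQ, sq⟩

omit [GrpObj G] in
/-- A map through which a cover of its source lifts along a monomorphism lifts. -/
theorem exists_lift_of_cover {A B Q : Over S} (c : A ⟶ B) [Surjective c.left] [Flat c.left]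
    [LocallyOfFinitePresentation c.left] (i : Q ⟶ X) [Mono i.left] (b : B ⟶ X) (l : A ⟶ Q)
    (w : l ≫ i = c ≫ b) : ∃ k : B ⟶ Q, k ≫ i = b := by
  have w' : l.left ≫ i.left = c.left ≫ b.left := congrArg CommaMorphism.left w
  let k₀ : B.left ⟶ Q.left := EffectiveEpi.desc c.left l.left fun {T} g₁ g₂ hg =>
    (cancel_mono i.left).1 (by rw [Category.assoc, Category.assoc, w', reassoc_of% hg])
  have hk : k₀ ≫ i.left = b.left := by
    rw [← cancel_epi c.left, EffectiveEpi.fac_assoc, w']
  refine ⟨Over.homMk k₀ ?_, Over.OverMorphism.ext hk⟩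
  rw [← Over.w i, reassoc_of% hk]
  exact Over.w b

set_option maxHeartbeats 1000000 in
/-- A homomorphism with flat kernel factors as a faithfully flat homomorphism followed by a
monomorphism. -/
theorem exists_hom_factor {G H : Over S} [GrpObj G] [GrpObj H]
    [LocallyOfFinitePresentation G.hom]
    (hH : LocallyOfFiniteType H.hom ∨ IsLocallyNoetherian S) (u : G ⟶ H) [IsMonHom u] {K : Over S} (k : K ⟶ G)
    (hk : IsPullback k (toUnit K) u η[H]) [Flat K.hom] :
    ∃ (Q : Over S) (_ : GrpObj Q) (p : G ⟶ Q) (i : Q ⟶ H), IsMonHom p ∧ IsMonHom i ∧ p ≫ i = u ∧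
      Surjective p.left ∧ Flat p.left ∧ LocallyOfFinitePresentation p.left ∧ Mono i ∧
      LocallyOfFinitePresentation Q.hom ∧ AlgGrp.IsKernel k p ∧
      IsPullback ((G ◁ k) ≫ μ[G]) (fst G K) p p := by
  have hmulu : μ[G] ≫ u = (fst G G ≫ u) * (snd G G ≫ u) := by
    rw [IsMonHom.mul_hom, Hom.mul_def, ← lift_map, lift_fst_snd, Category.id_comp]
  let a : AlgGrp.Action G H :=
    { act := (fst G H ≫ u) * snd G H
      one_act := by
        rw [MonObj.comp_mul, whiskerRight_fst_assoc, whiskerRight_snd, IsMonHom.one_hom,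
          toUnit_unique (fst (𝟙_ (Over S)) H) (toUnit _), ← Hom.one_def, _root_.one_mul, leftUnitor_hom]
      mul_act := by
        simp only [MonObj.comp_mul, whiskerRight_fst_assoc, whiskerRight_snd, whiskerLeft_fst_assoc,
          whiskerLeft_snd, associator_hom_fst_assoc, hmulu]
        simp only [← Category.assoc, associator_hom_fst, associator_hom_snd_fst, associator_hom_snd_snd,
          whiskerLeft_fst, whiskerLeft_snd, whiskerRight_fst, whiskerRight_snd, Category.assoc,
          associator_hom_snd_fst_assoc, associator_hom_snd_snd_assoc, _root_.mul_assoc] }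
  have horb : a.orbitMap η[H] = u := by
    show lift (𝟙 G) (toUnit G ≫ η[H]) ≫ ((fst G H ≫ u) * snd G H) = u
    rw [MonObj.comp_mul, lift_fst_assoc, lift_snd, Category.id_comp, ← Hom.one_def, _root_.mul_one]
  obtain ⟨Q, p, i, hpi, h₁, h₂, h₃, hi, hi', hQ, sq⟩ :=
    exists_orbit_factor' a η[H] hH k (horb.symm ▸ hk)
  rw [horb] at hpi
  have : Surjective (p ⊗ₘ p).left ∧ Flat (p ⊗ₘ p).left ∧ LocallyOfFinitePresentation (p ⊗ₘ p).left := by
    rw [Over.tensorHom_left]
    exact ⟨MorphismProperty.pullbackMap (P := @Surjective) h₁ h₁ (Over.w p).symm (Over.w p).symm,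
      MorphismProperty.pullbackMap (P := @Flat) h₂ h₂ (Over.w p).symm (Over.w p).symm,
      MorphismProperty.pullbackMap (P := @LocallyOfFinitePresentation) h₃ h₃ (Over.w p).symm (Over.w p).symm⟩
  obtain ⟨_, _, _⟩ := this
  obtain ⟨G', hG'⟩ := GrothLib.AntiAffine.exists_grpObj_of_factor i
    ⟨η[G] ≫ p, by rw [Category.assoc, hpi, IsMonHom.one_hom]⟩
    (exists_lift_of_cover (p ⊗ₘ p) i _ (μ[G] ≫ p) (by
      rw [Category.assoc, hpi, hmulu, MonObj.comp_mul, tensorHom_fst_assoc, tensorHom_snd_assoc, hpi]))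
    (exists_lift_of_cover p i _ (GrpObj.inv ≫ p) (by
      rw [Category.assoc, hpi, GrpObj.comp_inv, hpi, GrpObj.inv_hom]; rfl))
  have hp : IsMonHom p := by
    refine ⟨?_, ?_⟩
    · rw [← cancel_mono i, Category.assoc, hpi, IsMonHom.one_hom, hG'.one_hom]
    · rw [← cancel_mono i, Category.assoc, hpi, Category.assoc, hG'.mul_hom, ← Category.assoc,
        tensorHom_comp_tensorHom, hpi, IsMonHom.mul_hom]
  refine ⟨Q, G', p, i, hp, hG', hpi, h₁, h₂, h₃, hi, hQ, ?_, sq⟩
  exact isPullback_cancel_mono i hpi hG'.one_hom hk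

end GrothLib.FlatFactor
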