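import Groth.Agent.Lib.FlatFactor.Chart
import Groth.Agent.Lib.AlgSp.UnramMono
import Groth.Agent.Lib.AlgSp.Quotient

/-!
# Factorisation of morphisms with flat relative square through monomorphisms
-/

universe u

open CategoryTheory CategoryTheory.Limits AlgebraicGeometry

namespace GrothLib.FlatFactor

open GrothLib.AlgSp

variable {X Y : Scheme.{u}} (f : X ⟶ Y)

/-- A relative square with a flat projection of a faithfully flat lift. -/
theorem flat_fst_of_lift [Flat (pullback.fst f f)] {V Z : Scheme.{u}} (v : V ⟶ Y) (π : Z ⟶ V)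
    [Flat π] [Surjective π] (q : Z ⟶ X) (w : q ≫ f = π ≫ v) :
    Flat (pullback.fst v f) ∧ Surjective (pullback.fst v f) := by
  let c : pullback (π ≫ v) f ⟶ pullback v f :=
    pullback.lift (pullback.fst _ _ ≫ π) (pullback.snd _ _)
      (by rw [Category.assoc, pullback.condition])
  have sq : IsPullback c (pullback.fst (π ≫ v) f) (pullback.fst v f) π := by
    refine IsPullback.of_right ?_ (pullback.lift_fst _ _ _) (IsPullback.of_hasPullback v f).flip
    rw [pullback.lift_snd]
    exact (IsPullback.of_hasPullback (π ≫ v) f).flip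
  have hc₁ : Flat c := MorphismProperty.of_isPullback sq.flip ‹Flat π›
  have hc₂ : Surjective c := MorphismProperty.of_isPullback sq.flip ‹Surjective π›
  have : Surjective (pullback.fst f f) := by
    have : Surjective (pullback.diagonal f ≫ pullback.fst f f) := by
      rw [pullback.diagonal_fst]; infer_instance
    exact Surjective.of_comp (pullback.diagonal f) _
  have hz : Flat (pullback.fst (π ≫ v) f) ∧ Surjective (pullback.fst (π ≫ v) f) := by
    rw [← w, ← pullbackRightPullbackFstIso_inv_fst f f q]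
    exact ⟨inferInstance, inferInstance⟩
  obtain ⟨hz₁, hz₂⟩ := hz
  have h1 : Flat (c ≫ pullback.fst v f) := by rw [sq.w]; infer_instance
  have h2 : Surjective (c ≫ pullback.fst v f) := by rw [sq.w]; infer_instance
  exact ⟨srcDescends_flat c _ hc₁ hc₂ h1, Surjective.of_comp c _⟩

/-- Pullbacks of a map with flat square along lifts are flat. -/
theorem flat_fst_self_of_lift {V Z : Scheme.{u}} (v : V ⟶ Y) (π : Z ⟶ V)
    [Flat π] [Surjective π] (q : Z ⟶ X) (w : q ≫ f = π ≫ v) [Flat (pullback.snd v f)] :
    Flat (pullback.fst v v) := by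
  let c : pullback (π ≫ v) v ⟶ pullback v v :=
    pullback.lift (pullback.fst _ _ ≫ π) (pullback.snd _ _)
      (by rw [Category.assoc, pullback.condition])
  have sq : IsPullback c (pullback.fst (π ≫ v) v) (pullback.fst v v) π := by
    refine IsPullback.of_right ?_ (pullback.lift_fst _ _ _) (IsPullback.of_hasPullback v v).flip
    rw [pullback.lift_snd]
    exact (IsPullback.of_hasPullback (π ≫ v) v).flip
  have : Flat (pullback.fst f v) := by
    rw [← pullbackSymmetry_hom_comp_snd f v]
    infer_instance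
  have hz : Flat (pullback.fst (π ≫ v) v) := by
    rw [← w, ← pullbackRightPullbackFstIso_inv_fst f v q]
    infer_instance
  have h1 : Flat (c ≫ pullback.fst v v) := by rw [sq.w]; infer_instance
  exact srcDescends_flat c _ (MorphismProperty.of_isPullback sq.flip ‹Flat π›)
    (MorphismProperty.of_isPullback sq.flip ‹Surjective π›) h1

set_option maxHeartbeats 1000000 in
/-- A locally finitely presented map with flat square factors as a faithfully flat map followed by
a monomorphism. -/
theorem exists_factor [LocallyOfFinitePresentation f] [Flat (pullback.fst f f)] :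
    ∃ (X' : Scheme.{u}) (f' : X ⟶ X') (f'' : X' ⟶ Y),
      Surjective f' ∧ Flat f' ∧ LocallyOfFinitePresentation f' ∧ Mono f'' ∧
        LocallyOfFiniteType f'' ∧ f' ≫ f'' = f := by
  choose Vi Zi vi πi qi ti hti hvp hvu hπf hπs hπp hw hflat using exists_chart f
  let V := ∐ Vi
  let Z := ∐ Zi
  let v : V ⟶ Y := Sigma.desc vi
  let π : Z ⟶ V := Sigma.desc fun x => πi x ≫ Sigma.ι Vi x
  let q : Z ⟶ X := Sigma.desc qi
  have hπf' : Flat π := IsZariskiLocalAtSource.sigmaDesc fun x =>
    haveI := hπf x; inferInstance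
  have hπs' : Surjective π := ⟨fun z => by
    obtain ⟨x, z', rfl⟩ := (sigmaOpenCover Vi).exists_eq z
    obtain ⟨z'', rfl⟩ := (hπs x).surj z'
    refine ⟨Sigma.ι Zi x z'', ?_⟩
    rw [← Scheme.Hom.comp_apply, Sigma.ι_desc]
    rfl⟩
  have hv : LocallyOfFinitePresentation v := IsZariskiLocalAtSource.sigmaDesc hvp
  have hu : FormallyUnramified v := IsZariskiLocalAtSource.sigmaDesc hvu
  have w : q ≫ f = π ≫ v := Sigma.hom_ext _ _ fun x => by
    simp only [q, π, v, Sigma.ι_desc_assoc, Category.assoc, Sigma.ι_desc, hw]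
  have hflat' : Flat (pullback.snd v f) := by
    rw [IsZariskiLocalAtSource.iff_of_openCover (P := @Flat)
      (Scheme.Pullback.openCoverOfLeft (sigmaOpenCover Vi) v f)]
    intro x
    have hj : Sigma.ι Vi x ≫ v = vi x := Sigma.ι_desc _ _
    have := hflat x
    have : Flat (pullback.snd (Sigma.ι Vi x ≫ v) f) := by rw [hj]; infer_instance
    rw [show (Scheme.Pullback.openCoverOfLeft (sigmaOpenCover Vi) v f).f x ≫ pullback.snd v f =
        pullback.snd (Sigma.ι Vi x ≫ v) f from (pullback.lift_snd _ _ _).trans (Category.comp_id _)]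
    exact this
  have : FormallyUnramified (pullback.snd v f) := MorphismProperty.pullback_snd (P := @FormallyUnramified) _ _ hu
  have : Etale (pullback.snd v f) := Etale.of_formallyUnramified_of_flat _
  have : Flat (pullback.fst v v) := flat_fst_self_of_lift f v π q w
  have : FormallyUnramified (pullback.fst v v) := MorphismProperty.pullback_fst (P := @FormallyUnramified) _ _ hu
  have : Etale (pullback.fst v v) := Etale.of_formallyUnramified_of_flat _
  have : Etale (pullback.snd v v) := by
    rw [← pullbackSymmetry_hom_comp_fst v v]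
    infer_instance
  -- the image sheaf
  let T : Over Y := Over.mk (𝟙 Y)
  let U : Over Y := Over.mk v
  let h : U ⟶ T := Over.homMk v (Category.comp_id v)
  let R : Over Y := Over.mk (pullback.fst v v ≫ v)
  let t : R ⟶ U := Over.homMk (pullback.fst v v) rfl
  let s : R ⟶ U := Over.homMk (pullback.snd v v) pullback.condition.symm
  have sqR : IsPullback t s h h :=
    IsPullback.of_map (Over.forget Y) (Over.OverMorphism.ext pullback.condition)
      (IsPullback.of_hasPullback v v)
  let g := (_root_.AlgSp.yon Y).map h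
  let p := Sheaf.toImage g
  let ι' := Sheaf.imageι g
  have hpι : p ≫ ι' = g := Sheaf.toImage_ι g
  have sqg := isPullback_yon sqR
  have sq : IsPullback ((_root_.AlgSp.yon Y).map t) ((_root_.AlgSp.yon Y).map s) p p := by
    have w' : (_root_.AlgSp.yon Y).map t ≫ p = (_root_.AlgSp.yon Y).map s ≫ p := by
      rw [← cancel_mono ι', Category.assoc, Category.assoc, hpι]
      exact sqg.w
    refine ⟨⟨w'⟩, ⟨PullbackCone.IsLimit.mk _
      (fun c => sqg.lift c.fst c.snd (by
        change c.fst ≫ g = c.snd ≫ g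
        exact (congrArg (c.fst ≫ ·) hpι.symm).trans ((reassoc_of% c.condition) ι' |>.trans
          (congrArg (c.snd ≫ ·) hpι))))
      (fun c => sqg.lift_fst _ _ _) (fun c => sqg.lift_snd _ _ _) fun c m h₁ h₂ => ?_⟩⟩
    exact sqg.hom_ext (by rw [sqg.lift_fst, h₁]) (by rw [sqg.lift_snd, h₂])
  have hsE : Etale s.left := inferInstanceAs (Etale (pullback.snd v v))
  have htE : Etale t.left := inferInstanceAs (Etale (pullback.fst v v))
  obtain ⟨hF, hpe, hps⟩ := isAlgSpace_of_kernelPair sq hsE htE
  have hft : _root_.AlgSp.LocP @LocallyOfFiniteType ι' :=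
    EtLocal.locP_of_chart (h := h) EtLocal.lft hpe hps (_root_.AlgSp.repWith_id _ T)
      (by rw [hpι, Category.comp_id])
      (inferInstanceAs (LocallyOfFiniteType v))
  obtain ⟨M, ⟨e⟩⟩ := exists_iso_yon_of_lqf_separated hF ι'
    (locP_lqf_of_unramified (unramified_of_mono hft)) isSeparatedMor_of_mono
  let m : M ⟶ T := (_root_.AlgSp.yon Y).preimage (e.hom ≫ ι')
  let p' : U ⟶ M := (_root_.AlgSp.yon Y).preimage (p ≫ e.inv)
  have : Mono m := by
    have : Mono ((_root_.AlgSp.yon Y).map m) := by
      rw [Functor.map_preimage]; infer_instance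
    exact (_root_.AlgSp.yon Y).mono_of_mono_map this
  have : Mono m.left := inferInstanceAs (Mono ((Over.forget Y).map m))
  have hpm : p'.left ≫ m.left = v := by
    have : p' ≫ m = h := (_root_.AlgSp.yon Y).map_injective (by
      rw [Functor.map_comp, Functor.map_preimage, Functor.map_preimage, Category.assoc,
        Iso.inv_hom_id_assoc, hpι])
    exact congrArg CommaMorphism.left this
  have : Etale p'.left := (_root_.AlgSp.repWith_yon_map_iff _ _).1 (by
    rw [Functor.map_preimage]
    exact (MorphismProperty.cancel_right_of_respectsIso (_root_.AlgSp.RepWith @Etale) p e.inv).2 hpe)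
  have : Surjective p'.left := (_root_.AlgSp.repWith_yon_map_iff _ _).1 (by
    rw [Functor.map_preimage]
    exact (MorphismProperty.cancel_right_of_respectsIso (_root_.AlgSp.RepWith @Surjective) p e.inv).2 hps)
  have : LocallyOfFiniteType m.left := by
    have h1 : LocallyOfFiniteType (p'.left ≫ m.left) := by rw [hpm]; infer_instance
    exact GrothLib.AlgSp.srcDescends_fppf GrothLib.FppfSource.fppfSourceDescends_lft p'.left m.left
      ⟨inferInstance, inferInstance⟩ inferInstance h1
  -- the map from `X`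
  let c : pullback v f ⟶ X := pullback.snd v f
  have : Surjective c := ⟨fun x => by
    have hx : v (Sigma.ι Vi x (ti x)) = f x := by
      rw [← Scheme.Hom.comp_apply, Sigma.ι_desc]
      exact hti x
    obtain ⟨z, -, hz⟩ := Scheme.Pullback.exists_preimage_pullback _ _ hx
    exact ⟨z, hz⟩⟩
  let l : pullback v f ⟶ M.left := pullback.fst v f ≫ p'.left
  have hlm : l ≫ m.left = c ≫ f := by
    rw [Category.assoc, hpm, pullback.condition]
  let f' : X ⟶ M.left := EffectiveEpi.desc c l fun {T} g₁ g₂ hg => by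
    exact (cancel_mono m.left).1 (((Category.assoc g₁ l m.left).trans (congrArg (g₁ ≫ ·) hlm)).trans
      (((reassoc_of% hg) f).trans ((congrArg (g₂ ≫ ·) hlm.symm).trans (Category.assoc g₂ l m.left).symm)))
  have hcf : c ≫ f' = l := EffectiveEpi.fac c l _
  have hf : f' ≫ m.left = f := by
    rw [← cancel_epi c, reassoc_of% hcf, hlm]
  obtain ⟨hlf, hls⟩ := flat_fst_of_lift f v π q w
  refine ⟨M.left, f', m.left, ?_, ?_, ?_, inferInstance, inferInstance, hf⟩
  · have : Surjective (c ≫ f') := by rw [hcf]; infer_instance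
    exact Surjective.of_comp c f'
  · have : Flat (c ≫ f') := by rw [hcf]; infer_instance
    exact srcDescends_flat c f' (inferInstance : Flat c) inferInstance this
  · have : LocallyOfFinitePresentation (c ≫ f') := by rw [hcf]; infer_instance
    exact GrothLib.AlgSp.srcDescends_fppf GrothLib.FppfSource.fppfSourceDescends_lfp c f'
      ⟨inferInstance, inferInstance⟩ inferInstance this

/-- Two factorisations through monomorphisms agree. -/
theorem exists_iso_of_factor {X₁ X₂ : Scheme.{u}} (g₁ : X ⟶ X₁) (h₁ : X₁ ⟶ Y) (g₂ : X ⟶ X₂)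
    (h₂ : X₂ ⟶ Y) [Surjective g₁] [Flat g₁] [LocallyOfFinitePresentation g₁] [Mono h₁]
    (w₁ : g₁ ≫ h₁ = f) [Surjective g₂] [Flat g₂] [LocallyOfFinitePresentation g₂] [Mono h₂]
    (w₂ : g₂ ≫ h₂ = f) : ∃ φ : X₁ ≅ X₂, g₁ ≫ φ.hom = g₂ ∧ φ.hom ≫ h₂ = h₁ := by
  let a : X₁ ⟶ X₂ := EffectiveEpi.desc g₁ g₂ fun {T} b₁ b₂ hb => by
    rw [← cancel_mono h₂, Category.assoc, Category.assoc, w₂, ← w₁, reassoc_of% hb]
  let b : X₂ ⟶ X₁ := EffectiveEpi.desc g₂ g₁ fun {T} b₁ b₂ hb => by
    rw [← cancel_mono h₁, Category.assoc, Category.assoc, w₁, ← w₂, reassoc_of% hb]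
  have ha : g₁ ≫ a = g₂ := EffectiveEpi.fac _ _ _
  have hb : g₂ ≫ b = g₁ := EffectiveEpi.fac _ _ _
  refine ⟨⟨a, b, ?_, ?_⟩, ha, ?_⟩
  · rw [← cancel_epi g₁, reassoc_of% ha, hb, Category.comp_id]
  · rw [← cancel_epi g₂, reassoc_of% hb, ha, Category.comp_id]
  · rw [← cancel_epi g₁, reassoc_of% ha, w₂, w₁]

/-- A factorisation through a monomorphism makes the square flat. -/
theorem flat_fst_of_exists_factor {X' : Scheme.{u}} (f' : X ⟶ X') (f'' : X' ⟶ Y) [Flat f']
    [Mono f''] (w : f' ≫ f'' = f) : Flat (pullback.fst f f) := by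
  subst w
  have sq : IsPullback (pullback.fst (f' ≫ f'') (f' ≫ f'')) (pullback.snd (f' ≫ f'') (f' ≫ f'')) f' f' := by
    refine ⟨⟨?_⟩, ⟨PullbackCone.IsLimit.mk _
      (fun c => pullback.lift c.fst c.snd (by rw [reassoc_of% c.condition]))
      (fun c => pullback.lift_fst _ _ _) (fun c => pullback.lift_snd _ _ _) fun c m h₁ h₂ => ?_⟩⟩
    · rw [← cancel_mono f'', Category.assoc, Category.assoc, pullback.condition]
    · apply pullback.hom_ext
      · rw [h₁, pullback.lift_fst]
      · rw [h₂, pullback.lift_snd]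
  exact MorphismProperty.of_isPullback sq.flip ‹Flat f'›

end GrothLib.FlatFactor
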