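import Mathlib.RingTheory.LocalRing.Module
import Mathlib.RingTheory.LocalRing.ResidueField.Fiber
import Mathlib.RingTheory.RingHom.FaithfullyFlat
import Mathlib.RingTheory.RingHom.FinitePresentation
import Mathlib.LinearAlgebra.FreeModule.StrongRankCondition
import Mathlib.RingTheory.Ideal.GoingUp
import Mathlib.RingTheory.OrzechProperty
import Mathlib.RingTheory.Finiteness.ModuleFinitePresentation
import Mathlib.RingTheory.Support
import Mathlib.RingTheory.Localization.BaseChange
import Mathlib.RingTheory.RingHom.Flat
import Mathlib.RingTheory.Flat.FaithfullyFlat.Basic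

/-!
# The flattening stratum of a finite algebra with flat square
-/

universe u

namespace GrothLib.FlatFactor

open TensorProduct

/-- Finitely many elements spanning near a prime, as many as the fibre dimension. -/
theorem exists_spanning {A B : Type u} [CommRing A] [CommRing B] [Algebra A B] [Module.Finite A B]
    (p : Ideal A) [p.IsPrime] :
    ∃ (c : A) (b : Fin (Module.finrank p.ResidueField (p.ResidueField ⊗[A] B)) → B), c ∉ p ∧
      ∀ x : B, c • x ∈ Submodule.span A (Set.range b) := by
  let κ := p.ResidueField
  let bas := Module.finBasis κ (κ ⊗[A] B)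
  choose s hs x hx using fun i => Ideal.Fiber.exists_smul_eq_one_tmul p (bas i)
  let N := Submodule.span A (Set.range x)
  have h1 : ¬ Nontrivial (κ ⊗[A] (B ⧸ N)) := by
    rw [not_nontrivial_iff_subsingleton]
    let π : κ ⊗[A] B →ₗ[κ] κ ⊗[A] (B ⧸ N) := N.mkQ.baseChange κ
    have hπ : Function.Surjective π := LinearMap.lTensor_surjective κ N.mkQ_surjective
    have h0 : π = 0 := bas.ext fun i => by
      have hu : IsUnit (algebraMap A κ (s i)) :=
        isUnit_iff_ne_zero.2 fun h => hs i (Ideal.algebraMap_residueField_eq_zero.1 h)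
      have : algebraMap A κ (s i) • π (bas i) = 0 := by
        rw [← map_smul, algebraMap_smul, hx]
        show (1 : κ) ⊗ₜ[A] N.mkQ (x i) = 0
        rw [show N.mkQ (x i) = 0 from (Submodule.Quotient.mk_eq_zero N).2 (Submodule.subset_span ⟨i, rfl⟩), tmul_zero]
      exact hu.smul_eq_zero.1 this
    exact ⟨fun u v => by
      obtain ⟨u, rfl⟩ := hπ u
      obtain ⟨v, rfl⟩ := hπ v
      rw [h0]
      rfl⟩
  have h2 := mt (Module.mem_support_iff_nontrivial_residueField_tensorProduct
    (R := A) (M := B ⧸ N) ⟨p, inferInstance⟩).1 h1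
  rw [Module.support_eq_zeroLocus, PrimeSpectrum.mem_zeroLocus, SetLike.coe_subset_coe,
    SetLike.not_le_iff_exists] at h2
  obtain ⟨c, hc, hcp⟩ := h2
  refine ⟨c, x, hcp, fun y => ?_⟩
  rw [← Submodule.Quotient.mk_eq_zero N, Submodule.Quotient.mk_smul]
  exact Module.mem_annihilator.1 hc _

/-- Over a point, spanning elements as many as the fibre dimension have no relations in a flat
square. -/
theorem exists_annihilator_of_relation {A B : Type u} [CommRing A] [CommRing B] [Algebra A B]
    [Module.Finite A B] [Module.Flat B (B ⊗[A] B)]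
    (p : Ideal A) [p.IsPrime] {r : ℕ} (b : Fin r → B)
    (hspan : Submodule.span A (Set.range b) = ⊤)
    (hr : Module.finrank p.ResidueField (p.ResidueField ⊗[A] B) = r)
    (α : Fin r → A) (hα : ∑ i, α i • b i = 0) (i : Fin r) :
    ∃ a : A, a ∉ p ∧ a • algebraMap A B (α i) = 0 := by
  let P := B ⊗[A] B
  haveI : Module.Finite B P := inferInstance
  let φ : (Fin r → B) →ₗ[B] P := Fintype.linearCombination B fun i => (1 : B) ⊗ₜ[A] b i
  have hφ : Function.Surjective φ := by
    intro y
    induction y using TensorProduct.induction_on with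
    | zero => exact ⟨0, map_zero _⟩
    | add u v hu hv =>
      obtain ⟨u, rfl⟩ := hu
      obtain ⟨v, rfl⟩ := hv
      exact ⟨u + v, map_add _ _ _⟩
    | tmul s t =>
      have ht : t ∈ Submodule.span A (Set.range b) := hspan ▸ Submodule.mem_top
      obtain ⟨c, rfl⟩ := (Submodule.mem_span_range_iff_exists_fun A).1 ht
      refine ⟨fun i => c i • s, ?_⟩
      rw [Fintype.linearCombination_apply, TensorProduct.tmul_sum]
      refine Finset.sum_congr rfl fun i _ => ?_
      rw [TensorProduct.smul_tmul', tmul_smul, TensorProduct.smul_tmul', smul_eq_mul, mul_one]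
  let m : Fin r → B := fun i => algebraMap A B (α i)
  have hm : φ m = 0 := by
    rw [Fintype.linearCombination_apply]
    have : ∀ i, m i • ((1 : B) ⊗ₜ[A] b i) = (1 : B) ⊗ₜ[A] (α i • b i) := fun i => by
      rw [algebraMap_smul, tmul_smul]
    simp only [this]
    rw [← TensorProduct.tmul_sum, hα, tmul_zero]
  -- the coefficient vanishes at all points over `p`
  have key : ∀ z : Ideal B, z.IsPrime → z.comap (algebraMap A B) = p →
      ∃ t ∉ z, t * m i = 0 := by
    intro z hz hzp
    haveI : Nontrivial B := RingHom.domain_nontrivial (algebraMap B z.ResidueField)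
    let Bz := Localization.AtPrime z
    let Pz := Bz ⊗[B] P
    haveI : Module.Free Bz Pz := Module.free_of_flat_of_isLocalRing
    have hrank : Module.finrank Bz Pz = r := by
      let κz := z.ResidueField
      letI : Algebra p.ResidueField κz := (Ideal.ResidueField.mapₐ p z (Algebra.ofId A B) hzp.symm).toAlgebra
      haveI : IsScalarTower A p.ResidueField κz := IsScalarTower.of_algebraMap_eq fun a =>
        ((Ideal.ResidueField.mapₐ p z (Algebra.ofId A B) hzp.symm).commutes a).symm
      rw [← Module.finrank_baseChange (R := κz) (S := Bz) (M' := Pz)]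
      rw [(AlgebraTensorModule.cancelBaseChange B Bz κz κz P).finrank_eq,
        (AlgebraTensorModule.cancelBaseChange A B κz κz B).finrank_eq,
        ← (AlgebraTensorModule.cancelBaseChange A p.ResidueField κz κz B).finrank_eq,
        Module.finrank_baseChange, hr]
    let φz := φ.baseChange Bz
    have hφz : Function.Surjective φz := LinearMap.lTensor_surjective Bz hφ
    have hsrc : Module.finrank Bz (Bz ⊗[B] (Fin r → B)) = r := by
      rw [Module.finrank_baseChange, Module.finrank_fintype_fun_eq_card, Fintype.card_fin]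
    let e : Pz ≃ₗ[Bz] Bz ⊗[B] (Fin r → B) := LinearEquiv.ofFinrankEq _ _ (hrank.trans hsrc.symm)
    have hinj : Function.Injective φz := fun u v huv =>
      OrzechProperty.injective_of_surjective_endomorphism (e.toLinearMap ∘ₗ φz)
        (e.surjective.comp hφz) (congrArg e huv)
    have h0 : (1 : Bz) ⊗ₜ[B] m = 0 := hinj (by
      rw [map_zero, LinearMap.baseChange_tmul, hm, tmul_zero])
    have h1 : algebraMap B Bz (m i) = 0 := by
      have := congrArg ((TensorProduct.rid B Bz).toLinearMap ∘ₗ
        LinearMap.lTensor Bz (LinearMap.proj i : (Fin r → B) →ₗ[B] B)) h0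
      rw [map_zero] at this
      simpa [Algebra.smul_def] using this
    obtain ⟨⟨t, ht⟩, htm⟩ := (IsLocalization.map_eq_zero_iff z.primeCompl Bz (m i)).1 h1
    exact ⟨t, ht, htm⟩
  by_contra hcon
  push Not at hcon
  let J : Ideal B := Submodule.colon (⊥ : Ideal B) {m i}
  obtain ⟨Q, hJQ, hQ, hQp⟩ := Ideal.exists_ideal_over_prime_of_isIntegral p J fun a ha => by
    by_contra hap
    refine hcon a hap ?_
    have := Submodule.mem_colon_singleton.1 ha
    rw [Submodule.mem_bot] at this
    rw [Algebra.smul_def]
    exact this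
  obtain ⟨t, ht, htm⟩ := key Q hQ hQp
  exact ht (hJQ (Submodule.mem_colon_singleton.2 (by rw [Submodule.mem_bot]; exact htm)))

/-- A finite algebra with flat square is finite free over a finitely presented closed subscheme
near a point of its image. -/
theorem exists_stratum {A B : Type u} [CommRing A] [CommRing B] [Algebra A B]
    [Module.Finite A B] [Algebra.FinitePresentation A B] [Module.Flat B (B ⊗[A] B)]
    (p : Ideal A) [p.IsPrime] {r : ℕ} (b : Fin r → B)
    (hspan : Submodule.span A (Set.range b) = ⊤)
    (hr : Module.finrank p.ResidueField (p.ResidueField ⊗[A] B) = r)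
    (hP : ∃ P : Ideal B, P.IsPrime ∧ P.comap (algebraMap A B) = p) :
    ∃ a : A, a ∉ p ∧ ∃ I : Ideal (Localization.Away a), I.FG ∧
      ∃ ψ : (Localization.Away a ⧸ I) →+* (Localization.Away a) ⊗[A] B,
        ψ.comp (Ideal.Quotient.mk I) = algebraMap (Localization.Away a) _ ∧
        ψ.FaithfullyFlat ∧ ψ.FinitePresentation := by
  classical
  haveI : Module.FinitePresentation A B := Module.FinitePresentation.of_finite_of_finitePresentation A B
  let π : (Fin r → A) →ₗ[A] B := Fintype.linearCombination A b
  have hπ : Function.Surjective π := by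
    rw [← LinearMap.range_eq_top, Fintype.range_linearCombination, hspan]
  obtain ⟨G, hG⟩ := Module.FinitePresentation.fg_ker π hπ
  have hrel : ∀ g ∈ G, ∀ i, ∃ a : A, a ∉ p ∧ a • algebraMap A B (g i) = 0 := fun g hg i =>
    exists_annihilator_of_relation p b hspan hr g (by
      have : g ∈ LinearMap.ker π := hG ▸ Submodule.subset_span hg
      exact this) i
  choose a ha haz using hrel
  let a₀ : A := ∏ g : G, ∏ i, a g.1 g.2 i
  have ha₀ : a₀ ∉ p := fun h => by
    obtain ⟨g, -, hg⟩ := (Ideal.IsPrime.prod_mem_iff).1 h
    obtain ⟨i, -, hi⟩ := (Ideal.IsPrime.prod_mem_iff).1 hg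
    exact ha g.1 g.2 i hi
  let A' := Localization.Away a₀
  let B' := A' ⊗[A] B
  let I : Ideal A' := Ideal.span (((G ×ˢ (Finset.univ : Finset (Fin r))).image
    fun x => algebraMap A A' (x.1 x.2) : Finset A') : Set A')
  have hgI : ∀ g ∈ G, ∀ i, algebraMap A A' (g i) ∈ I := fun g hg i =>
    Ideal.subset_span (Finset.mem_coe.2 (Finset.mem_image.2 ⟨(g, i), by simp [hg], rfl⟩))
  have hI : I ≤ RingHom.ker (algebraMap A' B') := by
    rw [Ideal.span_le]
    intro z hz
    obtain ⟨⟨g, i⟩, hgi, rfl⟩ := Finset.mem_image.1 hz
    simp only [Finset.mem_product, Finset.mem_univ, and_true] at hgi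
    show algebraMap A' B' (algebraMap A A' (g i)) = 0
    have hu : IsUnit (algebraMap A A' (a g hgi i)) := by
      have := IsLocalization.Away.algebraMap_isUnit (S := A') a₀
      refine isUnit_of_dvd_unit ?_ this
      exact map_dvd _ ((Finset.dvd_prod_of_mem (fun i => a g hgi i) (Finset.mem_univ i)).trans
        (Finset.dvd_prod_of_mem (fun g : G => ∏ i, a g.1 g.2 i) (Finset.mem_univ ⟨g, hgi⟩)))
    have h2 : algebraMap A A' (a g hgi i) • algebraMap A' B' (algebraMap A A' (g i)) = 0 := by
      rw [← IsScalarTower.algebraMap_apply A A' B']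
      have e : algebraMap A B' (g i) = (1 : A') ⊗ₜ[A] algebraMap A B (g i) :=
        ((Algebra.TensorProduct.includeRight (R := A) (A := A') (B := B)).commutes (g i)).symm
      rw [algebraMap_smul, e, ← tmul_smul, haz, tmul_zero]
    exact hu.smul_eq_zero.1 h2
  let ψ : A' ⧸ I →+* B' := Ideal.Quotient.lift I (algebraMap A' B') hI
  let V := A' ⧸ I
  letI : Algebra V B' := ψ.toAlgebra
  haveI : IsScalarTower A' V B' := .of_algebraMap_eq' (Ideal.Quotient.lift_comp_mk I _ hI).symm
  -- the basis
  let π' : (Fin r → A') →ₗ[A'] B' := Fintype.linearCombination A' fun i => (1 : A') ⊗ₜ[A] b i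
  let emb : (Fin r → A) →ₗ[A] (Fin r → A') :=
    { toFun := fun c i => algebraMap A A' (c i)
      map_add' := fun c d => funext fun i => map_add _ _ _
      map_smul' := fun t c => funext fun i => by
        simp [Algebra.smul_def] }
  have hemb : ∀ c, π' (emb c) = (1 : A') ⊗ₜ[A] π c := fun c => by
    rw [Fintype.linearCombination_apply, Fintype.linearCombination_apply, TensorProduct.tmul_sum]
    exact Finset.sum_congr rfl fun i _ => by
      show algebraMap A A' (c i) • ((1 : A') ⊗ₜ[A] b i) = _
      rw [algebraMap_smul, tmul_smul]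
  let β : Fin r → B' := fun i => (1 : A') ⊗ₜ[A] b i
  have hspanβ : ⊤ ≤ Submodule.span V (Set.range β) := fun y _ => by
    induction y using TensorProduct.induction_on with
    | zero => exact zero_mem _
    | add u v hu hv => exact add_mem (hu trivial) (hv trivial)
    | tmul c z =>
      obtain ⟨w, rfl⟩ := hπ z
      have : c ⊗ₜ[A] π w = ∑ i, (Ideal.Quotient.mk I (c * algebraMap A A' (w i))) • β i := by
        rw [Fintype.linearCombination_apply, TensorProduct.tmul_sum]
        refine Finset.sum_congr rfl fun i _ => ?_
        refine Eq.trans ?_ (algebraMap_smul V (c * algebraMap A A' (w i)) (β i)).symm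
        rw [TensorProduct.smul_tmul', smul_eq_mul, mul_one, tmul_smul,
          TensorProduct.smul_tmul', Algebra.smul_def, mul_comm]
      rw [this]
      exact Submodule.sum_mem _ fun i _ => Submodule.smul_mem _ _ (Submodule.subset_span ⟨i, rfl⟩)
  have hli : LinearIndependent V β := by
    rw [Fintype.linearIndependent_iff]
    intro c hc i
    choose c' hc' using fun i => Ideal.Quotient.mk_surjective (c i)
    have hc0 : π' c' = 0 := by
      rw [Fintype.linearCombination_apply, ← hc]
      exact Finset.sum_congr rfl fun i _ => by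
        rw [← hc' i]
        exact (algebraMap_smul V (c' i) (β i)).symm
    obtain ⟨t, ht⟩ := IsLocalization.exist_integer_multiples (Submonoid.powers a₀) Finset.univ c'
    choose d hd using fun i => ht i (Finset.mem_univ i)
    have h1 : (1 : A') ⊗ₜ[A] π d = 0 := by
      rw [← hemb, show emb d = (t : A) • c' from funext fun i => hd i, ← algebraMap_smul A' (t : A) c',
        map_smul, hc0, smul_zero]
    haveI : IsLocalizedModule (Submonoid.powers a₀) ((TensorProduct.mk A A' B) 1) :=
      (isLocalizedModule_iff_isBaseChange (Submonoid.powers a₀) A' _).2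
        (TensorProduct.isBaseChange A B A')
    obtain ⟨u, hu⟩ := (IsLocalizedModule.eq_zero_iff (Submonoid.powers a₀)
      ((TensorProduct.mk A A' B) 1)).1 h1
    have hker : (u : A) • d ∈ Submodule.span A (G : Set (Fin r → A)) := by
      rw [hG, LinearMap.mem_ker, map_smul]
      exact hu
    have hle : Submodule.span A (G : Set (Fin r → A)) ≤
        ((I.restrictScalars A).comap ((LinearMap.proj i).comp emb)) := by
      rw [Submodule.span_le]
      intro g hg
      exact hgI g hg i
    have h2 : algebraMap A A' ((u : A) * d i) ∈ I := hle hker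
    rw [← hc' i, Ideal.Quotient.eq_zero_iff_mem]
    have h3 : algebraMap A A' ((u : A) * d i) = algebraMap A A' ((u * t : Submonoid.powers a₀) : A) * c' i := by
      rw [map_mul, hd i, Algebra.smul_def, Submonoid.coe_mul, map_mul, mul_assoc]
    rw [h3] at h2
    exact (Ideal.unit_mul_mem_iff_mem I (IsLocalization.map_units A' (u * t))).1 h2
  let bas : Module.Basis (Fin r) V B' := Module.Basis.mk hli hspanβ
  haveI : Module.Free V B' := Module.Free.of_basis bas
  haveI : Module.Finite V B' := Module.Finite.of_basis bas
  haveI : Nontrivial B' := by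
    obtain ⟨P, hPp, hPc⟩ := hP
    haveI : P.IsPrime := hPp
    let χ : B' →ₐ[A] Localization.AtPrime P :=
      Algebra.TensorProduct.lift (IsLocalization.Away.liftAlgHom a₀ (f := Algebra.ofId A (Localization.AtPrime P))
        (by
          show IsUnit (algebraMap A (Localization.AtPrime P) a₀)
          rw [IsScalarTower.algebraMap_apply A B (Localization.AtPrime P)]
          exact IsLocalization.map_units (M := P.primeCompl) _
            ⟨algebraMap A B a₀, fun h => ha₀ (hPc ▸ h)⟩))
        (IsScalarTower.toAlgHom A B _) fun _ _ => Commute.all _ _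
    exact RingHom.domain_nontrivial χ.toRingHom
  haveI : Nontrivial V := RingHom.domain_nontrivial ψ
  have hff : ψ.FaithfullyFlat := RingHom.faithfullyFlat_algebraMap_iff.2
    (inferInstance : Module.FaithfullyFlat V B')
  refine ⟨a₀, ha₀, I, ⟨_, rfl⟩, ψ, Ideal.Quotient.lift_comp_mk I _ hI, hff, ?_⟩
  haveI := Module.finitePresentation_of_projective V B'
  exact RingHom.finitePresentation_algebraMap.2 (inferInstance : Algebra.FinitePresentation V B')

end GrothLib.FlatFactor
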