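import Groth.Agent.Lib.FlatFactor.Saturate
import Groth.Agent.Lib.FlatFactor.Stratum
import Mathlib.RingTheory.Etale.QuasiFinite

/-!
# Etale local charts of the quotient by a flat relative square
-/

universe u

open CategoryTheory CategoryTheory.Limits AlgebraicGeometry TensorProduct

namespace GrothLib.FlatFactor

variable {X Y : Scheme.{u}} (f : X ⟶ Y)

/-- Pulling back along a map flat over a scheme with flat square. -/
theorem flat_snd_precomp {Z Z' : Scheme.{u}} (g : Z' ⟶ Z) [Flat g] (z : Z ⟶ Y)
    [Flat (pullback.snd z f)] : Flat (pullback.snd (g ≫ z) f) := by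
  have h : (pullbackRightPullbackFstIso z f g).inv ≫ pullback.snd g (pullback.fst z f) ≫
      pullback.snd z f = pullback.snd (g ≫ z) f := by
    rw [Iso.inv_comp_eq, pullbackRightPullbackFstIso_hom_snd]
  rw [← h]
  infer_instance

/-- A finite algebra over an etale neighbourhood, flat over `X`, has flat square. -/
theorem flat_square {A B : Type u} [CommRing A] [CommRing B] [Algebra A B]
    (i : Spec (CommRingCat.of A) ⟶ Y) [Etale i] (q : Spec (CommRingCat.of B) ⟶ X)
    (w : q ≫ f = Spec.map (CommRingCat.ofHom (algebraMap A B)) ≫ i)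
    [Flat (pullback.snd (q ≫ f) f)] : Module.Flat B (B ⊗[A] B) := by
  let z : Spec (CommRingCat.of B) ⟶ Spec (CommRingCat.of A) :=
    Spec.map (CommRingCat.ofHom (algebraMap A B))
  have hz : Flat (pullback.snd (z ≫ i) f) := by rw [← w]; infer_instance
  have h1 : Flat (pullback.fst (q ≫ f) (z ≫ i)) := by
    have h : (pullbackRightPullbackFstIso f (z ≫ i) q).inv ≫ pullback.fst q (pullback.fst f (z ≫ i)) =
        pullback.fst (q ≫ f) (z ≫ i) := pullbackRightPullbackFstIso_inv_fst f (z ≫ i) q
    have : Flat (pullback.fst f (z ≫ i)) := by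
      rw [← pullbackSymmetry_hom_comp_snd f (z ≫ i)]
      infer_instance
    rw [← h]
    infer_instance
  have h2 : Flat (pullback.fst (z ≫ i) (z ≫ i)) := by
    rw [w] at h1
    exact h1
  have h3 : IsOpenImmersion (pullback.mapDesc z z i) :=
    MorphismProperty.of_isPullback (pullback_map_diagonal_isPullback z z i)
      (inferInstance : IsOpenImmersion (pullback.diagonal i))
  have h4 : Flat (pullback.fst z z) := by
    have h : pullback.mapDesc z z i ≫ pullback.fst (z ≫ i) (z ≫ i) = pullback.fst z z := by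
      rw [pullback.lift_fst, Category.comp_id]
    rw [← h]
    infer_instance
  have h5 : Flat (Spec.map (CommRingCat.ofHom (algebraMap B (B ⊗[A] B)))) := by
    rw [← pullbackSpecIso_inv_fst A B B]
    infer_instance
  exact RingHom.flat_algebraMap_iff.1 ((HasRingHomProperty.Spec_iff (P := @Flat)).1 h5)

set_option maxHeartbeats 1000000 in
/-- A chart from a finite algebra over an etale neighbourhood spanned by as many elements as
the fibre dimension. -/
theorem exists_chart_of_spanning {A B : Type u} [CommRing A] [CommRing B] [Algebra A B]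
    [Module.Finite A B] [Algebra.FinitePresentation A B]
    (i : Spec (CommRingCat.of A) ⟶ Y) [Etale i] (q : Spec (CommRingCat.of B) ⟶ X)
    (w : q ≫ f = Spec.map (CommRingCat.ofHom (algebraMap A B)) ≫ i)
    [Flat (pullback.snd (q ≫ f) f)]
    (p : Spec (CommRingCat.of A)) {r : ℕ} (b : Fin r → B)
    (hspan : Submodule.span A (Set.range b) = ⊤)
    (hr : Module.finrank p.asIdeal.ResidueField (p.asIdeal.ResidueField ⊗[A] B) = r)
    (hP : ∃ P : Ideal B, P.IsPrime ∧ P.comap (algebraMap A B) = p.asIdeal) :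
    ∃ (V Z : Scheme.{u}) (v : V ⟶ Y) (π : Z ⟶ V) (q' : Z ⟶ X) (t : V),
      v t = i p ∧ LocallyOfFinitePresentation v ∧ FormallyUnramified v ∧
      Flat π ∧ Surjective π ∧ LocallyOfFinitePresentation π ∧ q' ≫ f = π ≫ v ∧
      Flat (pullback.snd v f) := by
  haveI := flat_square f i q w
  obtain ⟨a, ha, I, hI, ψ, hψ, hff, hfp⟩ := exists_stratum p.asIdeal b hspan hr hP
  let A' := Localization.Away a
  let B' := A' ⊗[A] B
  let jA : Spec (CommRingCat.of A') ⟶ Spec (CommRingCat.of A) :=
    Spec.map (CommRingCat.ofHom (algebraMap A A'))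
  haveI : IsOpenImmersion jA := IsOpenImmersion.of_isLocalization (R := CommRingCat.of A) a
  let k : Spec (CommRingCat.of (A' ⧸ I)) ⟶ Spec (CommRingCat.of A') :=
    Spec.map (CommRingCat.ofHom (Ideal.Quotient.mk I))
  haveI : IsClosedImmersion k :=
    IsClosedImmersion.spec_of_surjective _ Ideal.Quotient.mk_surjective
  haveI : LocallyOfFinitePresentation k :=
    (HasRingHomProperty.Spec_iff (P := @LocallyOfFinitePresentation)).2
      (RingHom.FinitePresentation.of_surjective _ Ideal.Quotient.mk_surjective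
        (by show (RingHom.ker (Ideal.Quotient.mk I)).FG; rw [Ideal.mk_ker]; exact hI))
  let π : Spec (CommRingCat.of B') ⟶ Spec (CommRingCat.of (A' ⧸ I)) :=
    Spec.map (CommRingCat.ofHom ψ)
  haveI : Flat π := (HasRingHomProperty.Spec_iff (P := @Flat)).2 hff.flat
  haveI : Surjective π := ⟨by
    algebraize [ψ]
    exact PrimeSpectrum.comap_surjective_of_faithfullyFlat⟩
  haveI : LocallyOfFinitePresentation π :=
    (HasRingHomProperty.Spec_iff (P := @LocallyOfFinitePresentation)).2 hfp
  let jB : Spec (CommRingCat.of B') ⟶ Spec (CommRingCat.of B) :=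
    Spec.map (CommRingCat.ofHom (Algebra.TensorProduct.includeRight : B →ₐ[A] B').toRingHom)
  haveI : IsIso (pullback.diagonal k) := inferInstance
  haveI : FormallyUnramified k := inferInstance
  let v := k ≫ jA ≫ i
  haveI : FormallyUnramified jA := inferInstance
  haveI : FormallyUnramified i := Etale.iff_flat_and_formallyUnramified.1 ‹_› |>.2.1
  haveI : FormallyUnramified (jA ≫ i) := inferInstance
  haveI : FormallyUnramified v := MorphismProperty.comp_mem @FormallyUnramified k (jA ≫ i) inferInstance inferInstance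
  let z := Spec.map (CommRingCat.ofHom (algebraMap A B))
  have hz : π ≫ k ≫ jA = jB ≫ z := by
    rw [← Spec.map_comp, ← Spec.map_comp, ← Spec.map_comp]
    congr 1
    refine CommRingCat.hom_ext (RingHom.ext fun x => ?_)
    show ψ (Ideal.Quotient.mk I (algebraMap A A' x)) = (1 : A') ⊗ₜ[A] algebraMap A B x
    rw [← RingHom.comp_apply, hψ, ← IsScalarTower.algebraMap_apply]
    exact ((Algebra.TensorProduct.includeRight : B →ₐ[A] B').commutes x).symm
  have hq : (jB ≫ q) ≫ f = π ≫ v := by
    rw [Category.assoc, w, ← Category.assoc, ← hz]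
    simp only [v, Category.assoc]
  obtain ⟨P, hP₁, hP₂⟩ := hP
  obtain ⟨s', hs'⟩ : (⟨p.asIdeal, inferInstance⟩ : PrimeSpectrum A) ∈
      Set.range (PrimeSpectrum.comap (algebraMap A A')) := by
    rw [PrimeSpectrum.localization_away_comap_range A' a]
    exact ha
  -- the point of the stratum
  obtain ⟨t, ht⟩ : ∃ t, (k ≫ jA) t = p := by
    let χ : B' →ₐ[A] Localization.AtPrime P :=
      Algebra.TensorProduct.lift (IsLocalization.Away.liftAlgHom a (f := Algebra.ofId A (Localization.AtPrime P))
        (by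
          show IsUnit (algebraMap A (Localization.AtPrime P) a)
          rw [IsScalarTower.algebraMap_apply A B (Localization.AtPrime P)]
          exact IsLocalization.map_units (M := P.primeCompl) _
            ⟨algebraMap A B a, fun h => ha (hP₂ ▸ h)⟩))
        (IsScalarTower.toAlgHom A B _) fun _ _ => Commute.all _ _
    let P' : Spec (CommRingCat.of B') :=
      ⟨(IsLocalRing.maximalIdeal (Localization.AtPrime P)).comap χ.toRingHom, inferInstance⟩
    refine ⟨π P', ?_⟩
    rw [← Scheme.Hom.comp_apply, hz]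
    refine PrimeSpectrum.ext ?_
    show Ideal.comap _ (Ideal.comap _ (Ideal.comap χ.toRingHom _)) = p.asIdeal
    rw [← hP₂]
    ext x
    show χ ((1 : A') ⊗ₜ[A] algebraMap A B x) ∈ IsLocalRing.maximalIdeal _ ↔ algebraMap A B x ∈ P
    rw [show χ ((1 : A') ⊗ₜ[A] algebraMap A B x) = algebraMap B (Localization.AtPrime P) (algebraMap A B x) from
      (Algebra.TensorProduct.lift_tmul _ _ _ _ _).trans (by rw [map_one, one_mul]; rfl)]
    exact IsLocalization.AtPrime.to_map_mem_maximal_iff _ P _
  refine ⟨_, _, v, π, jB ≫ q, t, ?_, inferInstance, inferInstance, inferInstance, inferInstance,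
    inferInstance, hq, ?_⟩
  · show (k ≫ jA ≫ i) t = i p
    rw [← Category.assoc, Scheme.Hom.comp_apply, ht]
  · haveI : Flat jB := by
      have h : jB = (pullbackSpecIso A A' B).inv ≫ pullback.snd _ _ :=
        (pullbackSpecIso_inv_snd A A' B).symm
      rw [h]
      infer_instance
    haveI : Flat (pullback.snd (π ≫ v) f) := by
      rw [← hq, Category.assoc]
      exact flat_snd_precomp f jB (q ≫ f)
    let c : pullback (π ≫ v) f ⟶ pullback v f :=
      pullback.lift (pullback.fst _ _ ≫ π) (pullback.snd _ _)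
        (by rw [Category.assoc, pullback.condition])
    have sq : IsPullback c (pullback.fst (π ≫ v) f) (pullback.fst v f) π := by
      refine IsPullback.of_right ?_ (pullback.lift_fst _ _ _) (IsPullback.of_hasPullback v f).flip
      rw [pullback.lift_snd]
      exact (IsPullback.of_hasPullback (π ≫ v) f).flip
    refine GrothLib.AlgSp.srcDescends_flat c _ (MorphismProperty.of_isPullback sq.flip ‹Flat π›)
      (MorphismProperty.of_isPullback sq.flip ‹Surjective π›) ?_
    rwa [pullback.lift_snd]

set_option maxHeartbeats 2000000 in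
/-- Charts through every point of the image. -/
theorem exists_chart [LocallyOfFinitePresentation f] [Flat (pullback.fst f f)] (x : X) :
    ∃ (V Z : Scheme.{u}) (v : V ⟶ Y) (π : Z ⟶ V) (q : Z ⟶ X) (t : V),
      v t = f x ∧ LocallyOfFinitePresentation v ∧ FormallyUnramified v ∧
      Flat π ∧ Surjective π ∧ LocallyOfFinitePresentation π ∧ q ≫ f = π ≫ v ∧
      Flat (pullback.snd v f) := by
  obtain ⟨R, D, i, φ, q, P, hi, hfp, hqf, hw, hy, hflat⟩ := exists_slice f x
  algebraize [φ.hom]
  let p : Spec R := Spec.map φ P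
  haveI : P.asIdeal.LiesOver p.asIdeal := ⟨rfl⟩
  obtain ⟨R', _, _, _, p', _, hp'p, e, he, P', _, hP'p', hP'P, heP', -, hfin, -⟩ :=
    Algebra.exists_etale_isIdempotentElem_forall_liesOver_eq (R := R) (S := D) p.asIdeal P.asIdeal
  let B₀ := R' ⊗[R] D
  let B := Localization.Away e
  haveI : Algebra.FinitePresentation R' B₀ := inferInstance
  haveI : Algebra.FinitePresentation B₀ B := IsLocalization.Away.finitePresentation e
  haveI : Algebra.FinitePresentation R' B := Algebra.FinitePresentation.trans R' B₀ B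
  obtain ⟨c, b, hc, hcb⟩ := exists_spanning (B := B) p'
  let A := Localization.Away c
  let B₁ := A ⊗[R'] B
  haveI : Algebra.Etale R A := inferInstance
  -- the map to `X`
  let jR : Spec (CommRingCat.of R') ⟶ Spec R := Spec.map (CommRingCat.ofHom (algebraMap R R'))
  let jA : Spec (CommRingCat.of A) ⟶ Spec (CommRingCat.of R') :=
    Spec.map (CommRingCat.ofHom (algebraMap R' A))
  haveI : Etale jR := (HasRingHomProperty.Spec_iff (P := @Etale)).2 (RingHom.etale_algebraMap.2 inferInstance)
  haveI : IsOpenImmersion jA := IsOpenImmersion.of_isLocalization (R := CommRingCat.of R') c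
  let ρ₀ : Spec (CommRingCat.of B₀) ⟶ Spec D :=
    Spec.map (CommRingCat.ofHom (Algebra.TensorProduct.includeRight : D →ₐ[R] B₀).toRingHom)
  let jB : Spec (CommRingCat.of B) ⟶ Spec (CommRingCat.of B₀) :=
    Spec.map (CommRingCat.ofHom (algebraMap B₀ B))
  haveI : IsOpenImmersion jB := IsOpenImmersion.of_isLocalization (R := CommRingCat.of B₀) e
  let jB₁ : Spec (CommRingCat.of B₁) ⟶ Spec (CommRingCat.of B) :=
    Spec.map (CommRingCat.ofHom (Algebra.TensorProduct.includeRight : B →ₐ[R'] B₁).toRingHom)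
  haveI : Flat ρ₀ := by
    have h : ρ₀ = (pullbackSpecIso R R' D).inv ≫ pullback.snd _ _ :=
      (pullbackSpecIso_inv_snd R R' D).symm
    rw [h]
    infer_instance
  haveI : Flat jB₁ := by
    have h : jB₁ = (pullbackSpecIso R' A B).inv ≫ pullback.snd _ _ :=
      (pullbackSpecIso_inv_snd R' A B).symm
    rw [h]
    infer_instance
  let q₁ := (jB₁ ≫ jB ≫ ρ₀) ≫ q
  haveI : Flat (pullback.snd (q₁ ≫ f) f) := by
    show Flat (pullback.snd (((jB₁ ≫ jB ≫ ρ₀) ≫ q) ≫ f) f)
    rw [Category.assoc]
    exact flat_snd_precomp f (jB₁ ≫ jB ≫ ρ₀) (q ≫ f)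
  let i₁ := jA ≫ jR ≫ i
  have hw₁ : q₁ ≫ f = Spec.map (CommRingCat.ofHom (algebraMap A B₁)) ≫ i₁ := by
    have key : jB₁ ≫ jB ≫ ρ₀ ≫ Spec.map φ =
        Spec.map (CommRingCat.ofHom (algebraMap A B₁)) ≫ jA ≫ jR := by
      simp only [jB₁, jB, ρ₀, jA, jR, ← Spec.map_comp]
      congr 1
      refine CommRingCat.hom_ext (RingHom.ext fun r => ?_)
      show (1 : A) ⊗ₜ[R'] algebraMap B₀ B ((1 : R') ⊗ₜ[R] algebraMap R D r) =
        algebraMap A B₁ (algebraMap R' A (algebraMap R R' r))
      rw [← IsScalarTower.algebraMap_apply R' A B₁]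
      have h1 : (1 : R') ⊗ₜ[R] algebraMap R D r = algebraMap R' B₀ (algebraMap R R' r) := by
        rw [← IsScalarTower.algebraMap_apply R R' B₀]
        exact (Algebra.TensorProduct.includeRight : D →ₐ[R] B₀).commutes r
      rw [h1, ← IsScalarTower.algebraMap_apply R' B₀ B]
      exact (Algebra.TensorProduct.includeRight : B →ₐ[R'] B₁).commutes _
    show ((jB₁ ≫ jB ≫ ρ₀) ≫ q) ≫ f = _
    rw [Category.assoc, hw]
    simp only [i₁, Category.assoc]
    rw [reassoc_of% key]
  -- the point
  obtain ⟨p₁, hp₁⟩ : (⟨p', inferInstance⟩ : PrimeSpectrum R') ∈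
      Set.range (PrimeSpectrum.comap (algebraMap R' A)) := by
    rw [PrimeSpectrum.localization_away_comap_range A c]
    exact hc
  have hp₁' : p₁.asIdeal.comap (algebraMap R' A) = p' := congrArg PrimeSpectrum.asIdeal hp₁
  let κ := p'.ResidueField
  let κ₁ := p₁.asIdeal.ResidueField
  let ι : κ →ₐ[R'] κ₁ := Ideal.ResidueField.mapₐ p' p₁.asIdeal (Algebra.ofId R' A) hp₁'.symm
  letI : Algebra κ κ₁ := ι.toRingHom.toAlgebra
  haveI : IsScalarTower R' κ κ₁ := IsScalarTower.of_algebraMap_eq fun x => (ι.commutes x).symm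
  haveI : Module.Free κ (κ ⊗[R'] B) := Module.Free.of_divisionRing κ _
  have hr : Module.finrank κ₁ (κ₁ ⊗[A] B₁) = Module.finrank κ (κ ⊗[R'] B) := by
    rw [(AlgebraTensorModule.cancelBaseChange R' A κ₁ κ₁ B).finrank_eq,
      ← (AlgebraTensorModule.cancelBaseChange R' κ κ₁ κ₁ B).finrank_eq, Module.finrank_baseChange]
  have hspan : Submodule.span A (Set.range fun j => (1 : A) ⊗ₜ[R'] b j) = (⊤ : Submodule A B₁) := by
    refine top_le_iff.1 fun y _ => ?_
    induction y using TensorProduct.induction_on with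
    | zero => exact zero_mem _
    | add u v hu hv => exact add_mem (hu trivial) (hv trivial)
    | tmul a z =>
      obtain ⟨w, hw⟩ := (Submodule.mem_span_range_iff_exists_fun R').1 (hcb z)
      have hu : IsUnit (algebraMap R' A c) := IsLocalization.Away.algebraMap_isUnit c
      obtain ⟨c', hc'⟩ := hu.exists_left_inv
      have : a ⊗ₜ[R'] z = (a * c') • ∑ j, w j • ((1 : A) ⊗ₜ[R'] b j) := by
        simp only [← tmul_smul, ← TensorProduct.tmul_sum, hw]
        rw [tmul_smul, ← algebraMap_smul A c, smul_smul, mul_assoc, hc', mul_one,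
          TensorProduct.smul_tmul', smul_eq_mul, mul_one]
      rw [this]
      refine Submodule.smul_mem _ _ (Submodule.sum_mem _ fun j _ => ?_)
      rw [← algebraMap_smul A (w j)]
      exact Submodule.smul_mem _ _ (Submodule.subset_span ⟨j, rfl⟩)
  obtain ⟨Pe, hPe⟩ : (⟨P', inferInstance⟩ : PrimeSpectrum B₀) ∈
      Set.range (PrimeSpectrum.comap (algebraMap B₀ B)) := by
    rw [PrimeSpectrum.localization_away_comap_range B e]
    exact heP'
  have hP₁ : ∃ P₁ : Ideal B₁, P₁.IsPrime ∧ P₁.comap (algebraMap A B₁) = p₁.asIdeal := by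
    let PB := Pe.asIdeal
    have hPB : PB.comap (algebraMap R' B) = p' := by
      rw [IsScalarTower.algebraMap_eq R' B₀ B, ← Ideal.comap_comap]
      rw [show PB.comap (algebraMap B₀ B) = P' from congrArg PrimeSpectrum.asIdeal hPe]
      exact (Ideal.LiesOver.over (P := P') (p := p')).symm
    let χ : B₁ →ₐ[R'] Localization.AtPrime PB :=
      Algebra.TensorProduct.lift (IsLocalization.Away.liftAlgHom c (f := Algebra.ofId R' (Localization.AtPrime PB))
        (by
          show IsUnit (algebraMap R' (Localization.AtPrime PB) c)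
          rw [IsScalarTower.algebraMap_apply R' B (Localization.AtPrime PB)]
          exact IsLocalization.map_units (M := PB.primeCompl) _
            ⟨algebraMap R' B c, fun h => hc (hPB ▸ h)⟩))
        (IsScalarTower.toAlgHom R' B _) fun _ _ => Commute.all _ _
    let P₁ := (IsLocalRing.maximalIdeal (Localization.AtPrime PB)).comap χ.toRingHom
    refine ⟨P₁, inferInstance, congrArg PrimeSpectrum.asIdeal
      (PrimeSpectrum.localization_comap_injective A (Submonoid.powers c)
        (a₁ := ⟨P₁.comap (algebraMap A B₁), inferInstance⟩) (a₂ := p₁) ?_)⟩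
    rw [hp₁]
    refine PrimeSpectrum.ext ?_
    show Ideal.comap (algebraMap R' A) (Ideal.comap (algebraMap A B₁) P₁) = p'
    rw [Ideal.comap_comap, ← IsScalarTower.algebraMap_eq]
    ext x
    show χ (algebraMap R' B₁ x) ∈ IsLocalRing.maximalIdeal _ ↔ _
    rw [χ.commutes, IsScalarTower.algebraMap_apply R' B (Localization.AtPrime PB),
      IsLocalization.AtPrime.to_map_mem_maximal_iff _ PB, ← hPB]
    rfl
  obtain ⟨V, Z, v, π, q', t, ht, h⟩ := exists_chart_of_spanning f i₁ q₁ hw₁ p₁
    (fun j => (1 : A) ⊗ₜ[R'] b j) hspan hr hP₁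
  refine ⟨V, Z, v, π, q', t, ?_, h⟩
  rw [ht]
  show (jA ≫ jR ≫ i) p₁ = f x
  rw [Scheme.Hom.comp_apply, Scheme.Hom.comp_apply]
  have h1 : jA p₁ = (⟨p', inferInstance⟩ : PrimeSpectrum R') := hp₁
  rw [h1]
  have h2 : jR (⟨p', inferInstance⟩ : PrimeSpectrum R') = p :=
    PrimeSpectrum.ext hp'p.over.symm
  rw [h2]
  exact hy

end GrothLib.FlatFactor
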