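import Groth.Agent.Lib.FlatFactor.Slice
import Groth.Agent.Lib.AlgSp.SourceLocal

/-!
# Flat slices of morphisms with flat relative square
-/

universe u

open CategoryTheory CategoryTheory.Limits AlgebraicGeometry TensorProduct

namespace GrothLib.FlatFactor

variable {X Y : Scheme.{u}} (f : X ⟶ Y)

/-- The relative square is symmetric. -/
theorem flat_snd_self [Flat (pullback.fst f f)] : Flat (pullback.snd f f) := by
  rw [← pullbackSymmetry_hom_comp_fst f f]
  infer_instance

/-- Pulling back `f` along a map which factors through it gives a base change of the square. -/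
theorem flat_fst_of_factor [Flat (pullback.fst f f)] {O : Scheme.{u}} (g : O ⟶ X) :
    Flat (pullback.fst (g ≫ f) f) := by
  rw [← pullbackRightPullbackFstIso_inv_fst f f g]
  infer_instance

/-- Pulling back along a map flat over `X` gives something flat over `X`. -/
theorem flat_snd_of_factor [Flat (pullback.fst f f)] {O : Scheme.{u}} (g : O ⟶ X) [Flat g] :
    Flat (pullback.snd (g ≫ f) f) := by
  have := flat_snd_self f
  have h : (pullbackRightPullbackFstIso f f g).inv ≫ pullback.snd g (pullback.fst f f) ≫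
      pullback.snd f f = pullback.snd (g ≫ f) f := by
    rw [Iso.inv_comp_eq, pullbackRightPullbackFstIso_hom_snd]
  rw [← h]
  infer_instance

/-- Saturation: a scheme covered flatly by a scheme flat over `X`. -/
theorem flat_snd_of_cover [Flat (pullback.fst f f)] {O Z : Scheme.{u}} (z : Z ⟶ Y) (h : O ⟶ Z)
    [Flat h] [Surjective h] (g : O ⟶ X) [Flat g] (w : h ≫ z = g ≫ f) :
    Flat (pullback.snd z f) := by
  let c : pullback (g ≫ f) f ⟶ pullback z f :=
    pullback.lift (pullback.fst _ _ ≫ h) (pullback.snd _ _)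
      (by rw [Category.assoc, w, pullback.condition])
  have sq : IsPullback c (pullback.fst (g ≫ f) f) (pullback.fst z f) h := by
    refine IsPullback.of_right ?_ (pullback.lift_fst _ _ _) (IsPullback.of_hasPullback z f).flip
    rw [pullback.lift_snd, w]
    exact (IsPullback.of_hasPullback (g ≫ f) f).flip
  refine GrothLib.AlgSp.srcDescends_flat c _ (MorphismProperty.of_isPullback sq.flip ‹Flat h›)
    (MorphismProperty.of_isPullback sq.flip ‹Surjective h›) ?_
  rw [pullback.lift_snd]
  exact flat_snd_of_factor f g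

set_option maxHeartbeats 1000000 in
/-- Through a point of the image passes a quasi-finite slice with flat square. -/
theorem exists_slice [LocallyOfFinitePresentation f] [Flat (pullback.fst f f)] (x : X) :
    ∃ (R D : CommRingCat.{u}) (i : Spec R ⟶ Y) (φ : R ⟶ D) (q : Spec D ⟶ X) (P : Spec D),
      IsOpenImmersion i ∧ φ.hom.FinitePresentation ∧ φ.hom.QuasiFinite ∧
      q ≫ f = Spec.map φ ≫ i ∧ i (Spec.map φ P) = f x ∧ Flat (pullback.snd (q ≫ f) f) := by
  obtain ⟨_, ⟨V, hV, rfl⟩, hxV, -⟩ := Y.isBasis_affineOpens.exists_subset_of_mem_open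
    (Set.mem_univ (f x)) isOpen_univ
  obtain ⟨_, ⟨U, hU, rfl⟩, hxU, hUV : U ≤ f ⁻¹ᵁ V⟩ :=
    X.isBasis_affineOpens.exists_subset_of_mem_open hxV (f ⁻¹ᵁ V).2
  let ψ := f.appLE V U hUV
  have hψ : ψ.hom.FinitePresentation := f.finitePresentation_appLE hV hU hUV
  have hw : Spec.map ψ ≫ hV.fromSpec = hU.fromSpec ≫ f :=
    IsAffineOpen.SpecMap_appLE_fromSpec f hV hU hUV
  obtain ⟨x', hx'⟩ := hU.range_fromSpec.ge hxU
  let R := Γ(Y, V)
  let S := Γ(X, U)
  algebraize [ψ.hom]
  let p : Ideal R := (Spec.map ψ x').asIdeal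
  haveI : Nontrivial (p.ResidueField ⊗[R] S) := by
    let Qf := PrimeSpectrum.preimageHomeomorphFiber R S ⟨p, inferInstance⟩ ⟨x', rfl⟩
    exact RingHom.domain_nontrivial (algebraMap _ (Qf.asIdeal.ResidueField))
  obtain ⟨D, _, _, hfp, hqf, ⟨ρ⟩, ⟨P, hP, hPp⟩, hflat⟩ := exists_piece R S p
  let φ : R ⟶ CommRingCat.of D := CommRingCat.ofHom (algebraMap R D)
  let ρ' : S ⟶ CommRingCat.of D := CommRingCat.ofHom ρ.toRingHom
  have hρ : ψ ≫ ρ' = φ := CommRingCat.hom_ext (RingHom.ext fun r => ρ.commutes r)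
  let q : Spec (CommRingCat.of D) ⟶ X := Spec.map ρ' ≫ hU.fromSpec
  have hq : q ≫ f = Spec.map φ ≫ hV.fromSpec := by
    rw [Category.assoc, ← hw, ← Category.assoc, ← Spec.map_comp, hρ]
  -- the chart of the square of the affine open
  let j : Spec (CommRingCat.of (S ⊗[R] D)) ⟶ pullback f (q ≫ f) :=
    (pullbackSpecIso R S D).inv ≫ pullback.map _ _ f (q ≫ f) hU.fromSpec (𝟙 _) hV.fromSpec hw
      (by rw [Category.id_comp]; exact hq.symm)
  have : IsOpenImmersion j := by
    have : IsOpenImmersion hU.fromSpec := inferInstance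
    infer_instance
  have hjfst : j ≫ pullback.fst f (q ≫ f) =
      Spec.map (CommRingCat.ofHom (algebraMap S (S ⊗[R] D))) ≫ hU.fromSpec := by
    rw [Category.assoc, pullback.lift_fst, ← Category.assoc, pullbackSpecIso_inv_fst]
  have hjsnd : j ≫ pullback.snd f (q ≫ f) =
      Spec.map (CommRingCat.ofHom (Algebra.TensorProduct.includeRight :
        D →ₐ[R] S ⊗[R] D).toRingHom) := by
    rw [Category.assoc, pullback.lift_snd, Category.comp_id, pullbackSpecIso_inv_snd]
    rfl
  -- flatness of the square of the affine open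
  have hT : Module.Flat S (S ⊗[R] S) := by
    let k : Spec (CommRingCat.of (S ⊗[R] S)) ⟶ pullback f f :=
      (pullbackSpecIso R S S).inv ≫ pullback.map _ _ f f hU.fromSpec hU.fromSpec hV.fromSpec hw hw
    have : IsOpenImmersion k := inferInstance
    have hk : k ≫ pullback.fst f f =
        Spec.map (CommRingCat.ofHom (algebraMap S (S ⊗[R] S))) ≫ hU.fromSpec := by
      rw [Category.assoc, pullback.lift_fst, ← Category.assoc, pullbackSpecIso_inv_fst]
    have h1 : Flat (Spec.map (CommRingCat.ofHom (algebraMap S (S ⊗[R] S))) ≫ hU.fromSpec) :=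
      hk ▸ inferInstance
    have h2 : Flat (Spec.map (CommRingCat.ofHom (algebraMap S (S ⊗[R] S)))) :=
      MorphismProperty.of_postcomp @Flat _ hU.fromSpec (W' := @IsOpenImmersion) inferInstance h1
    exact RingHom.flat_algebraMap_iff.1 ((HasRingHomProperty.Spec_iff (P := @Flat)).1 h2)
  -- the point on the graph
  let τ : S ⊗[R] D →ₐ[R] D := Algebra.TensorProduct.lift ρ (AlgHom.id R D) fun _ _ => Commute.all _ _
  let 𝔮 : Ideal (S ⊗[R] D) := P.comap τ.toRingHom
  obtain ⟨g, hg, hgflat⟩ := hflat S hT 𝔮 inferInstance (by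
    rw [← hPp]
    ext r
    show τ (algebraMap R _ r) ∈ P ↔ _
    rw [τ.commutes]
    rfl)
  let E := CommRingCat.of (Localization.Away g)
  let e : Spec E ⟶ Spec (CommRingCat.of (S ⊗[R] D)) :=
    Spec.map (CommRingCat.ofHom (algebraMap (S ⊗[R] D) (Localization.Away g)))
  let h₀ := e ≫ j ≫ pullback.snd f (q ≫ f)
  have : IsOpenImmersion e :=
    IsOpenImmersion.of_isLocalization (R := CommRingCat.of (S ⊗[R] D)) g
  have : Flat h₀ := by
    have : Flat (pullback.snd f (q ≫ f)) := by
      rw [← pullbackSymmetry_hom_comp_fst f (q ≫ f)]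
      have := flat_fst_of_factor f q
      infer_instance
    infer_instance
  have : LocallyOfFinitePresentation h₀ := by
    have : LocallyOfFinitePresentation (pullback.snd f (q ≫ f)) := inferInstance
    infer_instance
  let g₀ := e ≫ j ≫ pullback.fst f (q ≫ f)
  have : Flat g₀ := by
    have he : e ≫ Spec.map (CommRingCat.ofHom (algebraMap S (S ⊗[R] D))) =
        Spec.map (CommRingCat.ofHom (algebraMap S (Localization.Away g))) := by
      rw [← Spec.map_comp]
      congr 1
    show Flat (e ≫ j ≫ pullback.fst f (q ≫ f))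
    rw [hjfst, ← Category.assoc, he]
    have : Flat (Spec.map (CommRingCat.ofHom (algebraMap S (Localization.Away g)))) :=
      (HasRingHomProperty.Spec_iff (P := @Flat)).2 (RingHom.flat_algebraMap_iff.2 hgflat)
    infer_instance
  -- a basic open inside the image
  let P' : Spec (CommRingCat.of D) := ⟨P, hP⟩
  have hmem : P' ∈ Set.range h₀ := by
    obtain ⟨z, hz⟩ : (⟨𝔮, inferInstance⟩ : PrimeSpectrum (S ⊗[R] D)) ∈
        Set.range (PrimeSpectrum.comap (algebraMap (S ⊗[R] D) (Localization.Away g))) := by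
      rw [PrimeSpectrum.localization_away_comap_range _ g]
      exact hg
    refine ⟨z, ?_⟩
    show (e ≫ j ≫ pullback.snd f (q ≫ f)) z = P'
    rw [hjsnd, Scheme.Hom.comp_apply]
    refine PrimeSpectrum.ext ?_
    have hz' : z.asIdeal.comap (algebraMap (S ⊗[R] D) (Localization.Away g)) = 𝔮 :=
      congrArg PrimeSpectrum.asIdeal hz
    show Ideal.comap (Algebra.TensorProduct.includeRight : D →ₐ[R] S ⊗[R] D).toRingHom
      (z.asIdeal.comap (algebraMap (S ⊗[R] D) (Localization.Away g))) = P
    rw [hz']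
    ext d
    show τ ((1 : S) ⊗ₜ[R] d) ∈ P ↔ _
    rw [show τ ((1 : S) ⊗ₜ[R] d) = d from
      (Algebra.TensorProduct.lift_tmul _ _ _ _ _).trans (by rw [map_one, one_mul]; rfl)]
  obtain ⟨_, ⟨c, rfl⟩, hPc, hc⟩ := PrimeSpectrum.isTopologicalBasis_basic_opens.exists_subset_of_mem_open
    hmem h₀.isOpenMap.isOpen_range
  let Dc := CommRingCat.of (Localization.Away c)
  let ιc : Spec Dc ⟶ Spec (CommRingCat.of D) :=
    Spec.map (CommRingCat.ofHom (algebraMap D (Localization.Away c)))
  have : IsOpenImmersion ιc := IsOpenImmersion.of_isLocalization (R := CommRingCat.of D) c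
  have hrc : Set.range ιc = (PrimeSpectrum.basicOpen c : Set (PrimeSpectrum D)) :=
    PrimeSpectrum.localization_away_comap_range (Localization.Away c) c
  obtain ⟨Pc, hPc'⟩ := hrc.ge hPc
  refine ⟨R, Dc, hV.fromSpec, CommRingCat.ofHom (algebraMap R (Localization.Away c)), ιc ≫ q, Pc,
    inferInstance, ?_, ?_, ?_, ?_, ?_⟩
  · haveI : Algebra.FinitePresentation D (Localization.Away c) :=
      IsLocalization.Away.finitePresentation c
    exact RingHom.finitePresentation_algebraMap.2 (Algebra.FinitePresentation.trans R D _)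
  · haveI : Algebra.QuasiFinite D (Localization.Away c) :=
      .of_isLocalization (Submonoid.powers c)
    exact RingHom.quasiFinite_algebraMap.2 (Algebra.QuasiFinite.trans R D _)
  · rw [Category.assoc, hq, ← Category.assoc, ← Spec.map_comp]
    congr 2
  · have h1 : Spec.map (CommRingCat.ofHom (algebraMap R (Localization.Away c))) = ιc ≫ Spec.map φ := by
      rw [← Spec.map_comp]
      rfl
    rw [h1, Scheme.Hom.comp_apply, hPc']
    have h2 : Spec.map φ P' = Spec.map ψ x' := PrimeSpectrum.ext hPp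
    rw [h2, ← Scheme.Hom.comp_apply, hw, Scheme.Hom.comp_apply, hx']
  · haveI : Surjective (pullback.snd h₀ ιc) := ⟨fun z => by
      obtain ⟨w, hw'⟩ := hc (hrc.le ⟨z, rfl⟩)
      obtain ⟨t, -, ht⟩ := Scheme.Pullback.exists_preimage_pullback w z hw'
      exact ⟨t, ht⟩⟩
    refine flat_snd_of_cover f ((ιc ≫ q) ≫ f) (pullback.snd h₀ ιc) (pullback.fst h₀ ιc ≫ g₀) ?_
    rw [Category.assoc, ← pullback.condition_assoc]
    simp only [h₀, g₀, Category.assoc, pullback.condition]

end GrothLib.FlatFactor
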